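import Mathlib
import Cfsg.Agent.Lib.Coprime.Fitting

/-!
# Groups whose elements have two-power order or prime order different from five

Elements of coprime orders never commute; a group acting without fixed points on an abelian
`p`-group has no noncyclic subgroup of order `q²` and no nonabelian subgroup of order `q r`.
-/

set_option autoImplicit false
set_option linter.style.haveILetI false

namespace CfsgLib.PrimeOrders

open Subgroup Finset

/-- Every nonidentity element has two-power order or prime order other than five. -/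
def Hyp (G : Type*) [Group G] : Prop :=
  ∀ g : G, g ≠ 1 → (∃ k : ℕ, orderOf g = 2 ^ k) ∨ ((orderOf g).Prime ∧ orderOf g ≠ 5)

variable {G : Type*} [Group G]

theorem Hyp.subgroup (h : Hyp G) (X : Subgroup G) : Hyp X := fun g hg => by
  rw [← Subgroup.orderOf_coe g]
  exact h g fun e => hg (Subtype.ext e)

theorem Hyp.of_surjective (h : Hyp G) {Q : Type*} [Group Q] (f : G →* Q) (hf : Function.Surjective f) :
    Hyp Q := by
  intro y hy
  obtain ⟨g, rfl⟩ := hf y
  have hd : orderOf (f g) ∣ orderOf g := orderOf_map_dvd f g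
  rcases h g fun e => hy (by rw [e, map_one]) with ⟨k, hk⟩ | ⟨hp, h5⟩
  · rw [hk] at hd
    obtain ⟨j, -, hj⟩ := (Nat.dvd_prime_pow Nat.prime_two).1 hd
    exact Or.inl ⟨j, hj⟩
  · rcases (Nat.dvd_prime hp).1 hd with e | e
    · exact absurd (orderOf_eq_one_iff.1 e) hy
    · exact Or.inr (e ▸ ⟨hp, h5⟩)

theorem Hyp.prime_eq (h : Hyp G) {g : G} {p q : ℕ} (hp : p.Prime) (hq : q.Prime)
    (hpg : p ∣ orderOf g) (hqg : q ∣ orderOf g) : p = q := by
  rcases eq_or_ne g 1 with rfl | hg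
  · rw [orderOf_one, Nat.dvd_one] at hpg
    exact absurd hpg hp.ne_one
  rcases h g hg with ⟨k, hk⟩ | ⟨hr, -⟩
  · rw [hk] at hpg hqg
    rw [(Nat.prime_dvd_prime_iff_eq hp Nat.prime_two).1 (hp.dvd_of_dvd_pow hpg),
      (Nat.prime_dvd_prime_iff_eq hq Nat.prime_two).1 (hq.dvd_of_dvd_pow hqg)]
  · rw [(Nat.prime_dvd_prime_iff_eq hp hr).1 hpg, (Nat.prime_dvd_prime_iff_eq hq hr).1 hqg]

/-- An element whose order is divisible by an odd prime has that order. -/
theorem Hyp.orderOf_odd (h : Hyp G) {g : G} {p : ℕ} (hp : p.Prime) (hp2 : p ≠ 2)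
    (hpg : p ∣ orderOf g) : orderOf g = p := by
  rcases eq_or_ne g 1 with rfl | hg
  · rw [orderOf_one, Nat.dvd_one] at hpg
    exact absurd hpg hp.ne_one
  rcases h g hg with ⟨k, hk⟩ | ⟨hr, -⟩
  · rw [hk] at hpg
    exact absurd ((Nat.prime_dvd_prime_iff_eq hp Nat.prime_two).1 (hp.dvd_of_dvd_pow hpg)) hp2
  · exact ((Nat.prime_dvd_prime_iff_eq hp hr).1 hpg).symm

theorem Hyp.five_not_dvd [Finite G] (h : Hyp G) : ¬ 5 ∣ Nat.card G := fun hd => by
  haveI : Fact (Nat.Prime 5) := ⟨by norm_num⟩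
  obtain ⟨g, hg⟩ := exists_prime_orderOf_dvd_card' (G := G) 5 hd
  rcases h g (fun e => by rw [e, orderOf_one] at hg; omega) with ⟨k, hk⟩ | ⟨-, h5⟩
  · rw [hg] at hk
    have := (Nat.prime_dvd_prime_iff_eq (by norm_num : Nat.Prime 5) Nat.prime_two).1
      ((by norm_num : Nat.Prime 5).dvd_of_dvd_pow (dvd_of_eq hk))
    omega
  · exact h5 hg

/-- Commuting elements of coprime orders: one of them is trivial. -/
theorem Hyp.comm_eq_one (h : Hyp G) {x y : G} (hc : x * y = y * x)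
    (hcop : (orderOf x).Coprime (orderOf y)) : x = 1 ∨ y = 1 := by
  by_contra hne
  push Not at hne
  obtain ⟨p, hp, hpx⟩ := Nat.exists_prime_and_dvd (fun e => hne.1 (orderOf_eq_one_iff.1 e))
  obtain ⟨q, hq, hqy⟩ := Nat.exists_prime_and_dvd (fun e => hne.2 (orderOf_eq_one_iff.1 e))
  have he : orderOf (x * y) = orderOf x * orderOf y :=
    Commute.orderOf_mul_eq_mul_orderOf_of_coprime hc hcop
  have := h.prime_eq hp hq (he ▸ hpx.mul_right _) (he ▸ hqy.mul_left _)
  subst this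
  exact hp.not_dvd_one (hcop.gcd_eq_one ▸ Nat.dvd_gcd hpx hqy)

/-- An element of order a power of `p` and one of order a power of another prime `q`. -/
theorem Hyp.comm_eq_one' (h : Hyp G) {x y : G} (hc : x * y = y * x) {p q i j : ℕ} (hp : p.Prime)
    (hq : q.Prime) (hpq : p ≠ q) (hx : x ^ p ^ i = 1) (hy : y ^ q ^ j = 1) : x = 1 ∨ y = 1 :=
  h.comm_eq_one hc ((((Nat.coprime_primes hp hq).2 hpq).pow i j).coprime_dvd_left
    (orderOf_dvd_of_pow_eq_one hx) |>.coprime_dvd_right (orderOf_dvd_of_pow_eq_one hy))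

/-! ### Partitions -/

theorem prod_shift {V : Type*} [CommGroup V] (f : ℕ → V) (n : ℕ) (h : f n = f 0) :
    ∏ i ∈ range n, f (i + 1) = ∏ i ∈ range n, f i := by
  have h1 := prod_range_succ' f n
  rw [prod_range_succ, h] at h1
  exact (mul_right_cancel h1).symm

theorem prod_orbit {A V : Type*} [Group A] [CommGroup V] (φ : A →* MulAut V) (x : A) (n : ℕ)
    (hx : x ^ n = 1) (w : V) : φ x (∏ i ∈ range n, φ (x ^ i) w) = ∏ i ∈ range n, φ (x ^ i) w := by
  rw [map_prod]
  simp only [← MulAut.mul_apply, ← map_mul, ← pow_succ']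
  exact prod_shift (fun i => φ (x ^ i) w) n (by simp only [hx, pow_zero])

/-- If the translates `x ^ i y` generate a partition of their span, and none fixes a point, then
`v ^ q = 1`. -/
theorem pow_eq_one_of_partition {A V : Type*} [Group A] [CommGroup V] (φ : A →* MulAut V)
    {x y : A} {q r : ℕ} (hr : 0 < r) (hq : x ^ q = 1) (hs : ∀ i < q, (x ^ i * y) ^ r = 1)
    (hfx : ∀ w, φ x w = w → w = 1) (hfz : ∀ i < q, ∀ w, φ (x ^ i * y) w = w → w = 1)
    (hσ : ∀ j, 0 < j → j < r → ∃ σ : ℕ → ℕ, Set.MapsTo σ (range q) (range q) ∧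
      Set.InjOn σ (range q) ∧ ∀ i < q, (x ^ i * y) ^ j = x ^ σ i * y ^ j)
    (v : V) : v ^ q = 1 := by
  have hrow : ∀ i ∈ range q, ∏ j ∈ range r, φ ((x ^ i * y) ^ j) v = 1 := fun i hi =>
    hfz i (mem_range.1 hi) _ (prod_orbit φ _ r (hs i (mem_range.1 hi)) v)
  have h1 : ∏ j ∈ range r, ∏ i ∈ range q, φ ((x ^ i * y) ^ j) v = 1 := by
    rw [prod_comm]
    exact prod_eq_one hrow
  obtain ⟨r', rfl⟩ : ∃ r', r = r' + 1 := ⟨r - 1, by omega⟩
  rw [prod_range_succ'] at h1
  have hcol : ∀ j ∈ range r', ∏ i ∈ range q, φ ((x ^ i * y) ^ (j + 1)) v = 1 := by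
    intro j hj
    obtain ⟨σ, hm, hinj, hσ⟩ := hσ (j + 1) (by omega) (by rw [mem_range] at hj; omega)
    have himg : (range q).image σ = range q := eq_of_subset_of_card_le
      (image_subset_iff.2 fun i hi => hm hi) (card_image_of_injOn hinj).ge
    have h2 : ∏ i ∈ range q, φ ((x ^ i * y) ^ (j + 1)) v =
        ∏ i ∈ range q, φ (x ^ i) (φ (y ^ (j + 1)) v) := by
      conv_rhs => rw [← himg, prod_image hinj]
      refine prod_congr rfl fun i hi => ?_
      rw [hσ i (mem_range.1 hi), map_mul, MulAut.mul_apply]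
    rw [h2]
    exact hfx _ (prod_orbit φ x q hq _)
  rw [prod_eq_one hcol, one_mul] at h1
  simpa using h1

/-- Conjugation version. -/
theorem eq_one_of_partition {V : Subgroup G} (hV : ∀ a ∈ V, ∀ b ∈ V, a * b = b * a) {x y : G}
    (hxV : x ∈ normalizer (V : Set G)) (hyV : y ∈ normalizer (V : Set G)) {q r : ℕ} (hr : 0 < r)
    (hq : x ^ q = 1) (hs : ∀ i < q, (x ^ i * y) ^ r = 1)
    (hfx : ∀ w ∈ V, x * w = w * x → w = 1)
    (hfz : ∀ i < q, ∀ w ∈ V, (x ^ i * y) * w = w * (x ^ i * y) → w = 1)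
    (hσ : ∀ j, 0 < j → j < r → ∃ σ : ℕ → ℕ, Set.MapsTo σ (range q) (range q) ∧
      Set.InjOn σ (range q) ∧ ∀ i < q, (x ^ i * y) ^ j = x ^ σ i * y ^ j)
    {v : G} (hv : v ∈ V) : v ^ q = 1 := by
  letI : CommGroup V :=
    { (inferInstance : Group V) with mul_comm := fun a b => Subtype.ext (hV a a.2 b b.2) }
  let φ : normalizer (V : Set G) →* MulAut V := V.normalizerMonoidHom
  have hφ : ∀ (g : normalizer (V : Set G)) (w : V), ((φ g w : V) : G) = (g : G) * w * (g : G)⁻¹ :=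
    fun _ _ => rfl
  have key : ∀ (g : normalizer (V : Set G)) (w : V), φ g w = w → (g : G) * w = w * g := fun g w e => by
    have h1 := congrArg Subtype.val e
    rw [hφ] at h1
    exact mul_inv_eq_iff_eq_mul.1 h1
  have := pow_eq_one_of_partition φ (x := ⟨x, hxV⟩) (y := ⟨y, hyV⟩) hr (Subtype.ext (by simpa using hq))
    (fun i hi => Subtype.ext (by simpa using hs i hi))
    (fun w e => Subtype.ext (hfx w w.2 (key _ w e)))
    (fun i hi w e => Subtype.ext (hfz i hi w w.2 (by simpa using key _ w e)))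
    (fun j h0 h1 => by
      obtain ⟨σ, hm, hinj, he⟩ := hσ j h0 h1
      exact ⟨σ, hm, hinj, fun i hi => Subtype.ext (by simpa using he i hi)⟩) ⟨v, hv⟩
  simpa using congrArg Subtype.val this

theorem mem_normalizer_zpowers [Finite G] {x g : G} (hg : g * x * g⁻¹ ∈ zpowers x) :
    g ∈ normalizer (zpowers x : Set G) := by
  have hle : (zpowers x).map (MulAut.conj g).toMonoidHom ≤ zpowers x := by
    rw [MonoidHom.map_zpowers]; exact zpowers_le.2 hg
  have heq := Subgroup.eq_of_le_of_card_ge hle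
    (Subgroup.card_map_of_injective (MulAut.conj g).injective).ge
  refine mem_normalizer_iff.2 fun h => ⟨fun hh => hle ⟨h, hh, rfl⟩, fun hh => ?_⟩
  rw [← heq] at hh
  obtain ⟨k, hk, e⟩ := hh
  exact (MulAut.conj g).injective e ▸ hk

section Fpf

variable [Finite G] (h : Hyp G)
include h

theorem Hyp.fpf {p : ℕ} (hp : p.Prime) {V : Subgroup G} (hVp : IsPGroup p V) {z : G} {q : ℕ}
    (hq : q.Prime) (hqp : q ≠ p) (hzq : z ^ q = 1) (hz1 : z ≠ 1) {w : G} (hw : w ∈ V)
    (hc : z * w = w * z) : w = 1 := by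
  obtain ⟨i, hi⟩ := hVp ⟨w, hw⟩
  refine (h.comm_eq_one' hc (i := 1) (j := i) hq hp hqp (by rwa [pow_one]) ?_).resolve_left hz1
  simpa using congrArg Subtype.val hi

/-- Two commuting elements of the same prime order normalizing a `p`-group are dependent. -/
theorem Hyp.mem_zpowers_of_normalize {p : ℕ} (hp : p.Prime) {V : Subgroup G} (hVp : IsPGroup p V)
    (hV : ∀ a ∈ V, ∀ b ∈ V, a * b = b * a) (hV1 : V ≠ ⊥) {x y : G}
    (hxV : x ∈ normalizer (V : Set G)) (hyV : y ∈ normalizer (V : Set G)) {q : ℕ} (hq : q.Prime)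
    (hqp : q ≠ p) (hx : orderOf x = q) (hy : y ^ q = 1) (hc : x * y = y * x) : y ∈ zpowers x := by
  by_contra hyx
  obtain ⟨v, hv, hv1⟩ := (Subgroup.ne_bot_iff_exists_ne_one.1 hV1 |> fun ⟨a, ha⟩ =>
    (⟨a.1, a.2, fun e => ha (Subtype.ext e)⟩ : ∃ v, v ∈ V ∧ v ≠ 1))
  have hxq : x ^ q = 1 := hx ▸ pow_orderOf_eq_one x
  have hx1 : x ≠ 1 := fun e => by rw [e, orderOf_one] at hx; exact hq.ne_one hx.symm
  have hne : ∀ i, x ^ i * y ≠ 1 := fun i e => hyx (by
    rw [eq_inv_of_mul_eq_one_right e]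
    exact inv_mem (npow_mem_zpowers x i))
  have hz : ∀ i, (x ^ i * y) ^ q = 1 := fun i => by
    rw [(Commute.pow_left hc i).mul_pow, ← pow_mul, mul_comm, pow_mul, hxq, one_pow, hy, one_mul]
  have hvq : v ^ q = 1 := eq_one_of_partition hV hxV hyV hq.pos hxq (fun i _ => hz i)
    (fun w hw e => h.fpf hp hVp hq hqp hxq hx1 hw e)
    (fun i _ w hw e => h.fpf hp hVp hq hqp (hz i) (hne i) hw e) (fun j h0 hj => by
      refine ⟨fun i => i * j % q, fun i _ => mem_coe.2 (mem_range.2 (Nat.mod_lt _ hq.pos)), ?_,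
        fun i _ => ?_⟩
      · intro a ha b hb e
        simp only [coe_range, Set.mem_Iio] at ha hb
        have hcop : Nat.Coprime q j := hq.coprime_iff_not_dvd.2 (Nat.not_dvd_of_pos_of_lt h0 hj)
        have := Nat.ModEq.cancel_right_of_coprime hcop (e : a * j ≡ b * j [MOD q])
        rwa [Nat.ModEq, Nat.mod_eq_of_lt ha, Nat.mod_eq_of_lt hb] at this
      · rw [(Commute.pow_left hc i).mul_pow, ← pow_mul, ← hx, pow_mod_orderOf]) hv
  exact hv1 ((h.comm_eq_one' rfl (i := (hVp ⟨v, hv⟩).choose) (j := 1) hp hq hqp.symm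
    (by simpa using congrArg Subtype.val (hVp ⟨v, hv⟩).choose_spec) (by rwa [pow_one])).elim id id)

/-- No nonabelian group of order `q r` normalizes a `p`-group, `p` different from `q` and `r`. -/
theorem Hyp.no_frobenius {p : ℕ} (hp : p.Prime) {V : Subgroup G} (hVp : IsPGroup p V)
    (hV : ∀ a ∈ V, ∀ b ∈ V, a * b = b * a) (hV1 : V ≠ ⊥) {x y : G}
    (hxV : x ∈ normalizer (V : Set G)) (hyV : y ∈ normalizer (V : Set G)) {q r : ℕ} (hq : q.Prime)
    (hr : r.Prime) (hqp : q ≠ p) (hrp : r ≠ p) (hqr : q ≠ r) (hx : orderOf x = q)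
    (hy : orderOf y = r) (hn : y * x * y⁻¹ ∈ zpowers x) : False := by
  obtain ⟨c, hc⟩ := mem_powers_iff_mem_zpowers.2 hn
  change x ^ c = y * x * y⁻¹ at hc
  obtain ⟨v, hv, hv1⟩ := (Subgroup.ne_bot_iff_exists_ne_one.1 hV1 |> fun ⟨a, ha⟩ =>
    (⟨a.1, a.2, fun e => ha (Subtype.ext e)⟩ : ∃ v, v ∈ V ∧ v ≠ 1))
  have hxq : x ^ q = 1 := hx ▸ pow_orderOf_eq_one x
  have hyr : y ^ r = 1 := hy ▸ pow_orderOf_eq_one y
  have hx1 : x ≠ 1 := fun e => by rw [e, orderOf_one] at hx; exact hq.ne_one hx.symm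
  have hy1 : y ≠ 1 := fun e => by rw [e, orderOf_one] at hy; exact hr.ne_one hy.symm
  have hnc : ∀ j, 0 < j → j < r → y ^ j * x ≠ x * y ^ j := fun j h0 hj e => by
    rcases h.comm_eq_one' e (i := 1) (j := 1) hr hq hqr.symm
      (by rw [pow_one, ← pow_mul, mul_comm, pow_mul, hyr, one_pow]) (by rwa [pow_one]) with e1 | e1
    · exact Nat.not_dvd_of_pos_of_lt h0 hj (hy ▸ orderOf_dvd_of_pow_eq_one e1)
    · exact hx1 e1
  let s : ℕ → ℕ := fun j => ∑ k ∈ range j, c ^ k
  have hyx : ∀ n : ℕ, y * x ^ n = x ^ (c * n) * y := fun n => by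
    rw [pow_mul, hc, conj_pow, inv_mul_cancel_right]
  have hpow : ∀ i j, (x ^ i * y) ^ j = x ^ (i * s j) * y ^ j := by
    intro i j
    induction j with
    | zero => simp [s]
    | succ j ih =>
      have hs : s (j + 1) = c * s j + 1 := geom_sum_succ
      rw [pow_succ', ih, hs, show i * (c * s j + 1) = i + c * (i * s j) by ring, pow_add, pow_succ' y]
      calc x ^ i * y * (x ^ (i * s j) * y ^ j) = x ^ i * (y * x ^ (i * s j)) * y ^ j := by group
        _ = x ^ i * x ^ (c * (i * s j)) * (y * y ^ j) := by rw [hyx]; group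
  have hcj : ∀ j, y ^ j * x * (y ^ j)⁻¹ = x ^ (c ^ j) := by
    intro j
    induction j with
    | zero => simp
    | succ j ih =>
      rw [pow_succ' y, pow_succ c, pow_mul, ← ih, conj_pow, hc]
      group
  haveI : Fact q.Prime := ⟨hq⟩
  have hmod : ∀ n : ℕ, x ^ n = x ↔ (n : ZMod q) = 1 := fun n => by
    conv_lhs => rw [← pow_one x, ← pow_mul, one_mul, pow_eq_pow_iff_modEq, hx]
    rw [← ZMod.natCast_eq_natCast_iff, Nat.cast_one]
  have hgeom : ∀ j, (s j : ZMod q) * ((c : ZMod q) - 1) = (c : ZMod q) ^ j - 1 := fun j => by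
    simp only [s, Nat.cast_sum, Nat.cast_pow]
    exact geom_sum_mul _ _
  have hc1 : (c : ZMod q) - 1 ≠ 0 := fun e => hnc 1 one_pos hr.one_lt (by
    have h1 := hcj 1
    rw [pow_one c, (hmod c).2 (sub_eq_zero.1 e)] at h1
    exact mul_inv_eq_iff_eq_mul.1 h1)
  have hsr : ∀ i, x ^ (i * s r) = 1 := fun i => by
    have h1 := hcj r
    rw [hyr, one_mul, inv_one, mul_one] at h1
    have h2 := (hmod _).1 h1.symm
    have h3 := hgeom r
    rw [← Nat.cast_pow, h2, sub_self] at h3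
    rw [← orderOf_dvd_iff_pow_eq_one, hx]
    exact ((ZMod.natCast_eq_zero_iff _ _).1 ((mul_eq_zero.1 h3).resolve_right hc1)).mul_left _
  have hz : ∀ i, (x ^ i * y) ^ r = 1 := fun i => by rw [hpow, hsr, hyr, one_mul]
  have hne : ∀ i, x ^ i * y ≠ 1 := fun i e => hnc 1 one_pos hr.one_lt (by
    rw [pow_one, eq_inv_of_mul_eq_one_right e]
    exact ((Commute.refl x).pow_left i).inv_left.eq)
  have hvq : v ^ q = 1 := eq_one_of_partition hV hxV hyV hr.pos hxq (fun i _ => hz i)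
    (fun w hw e => h.fpf hp hVp hq hqp hxq hx1 hw e)
    (fun i _ w hw e => h.fpf hp hVp hr hrp (hz i) (hne i) hw e) (fun j h0 hj => by
      refine ⟨fun i => i * s j % q, fun i _ => mem_coe.2 (mem_range.2 (Nat.mod_lt _ hq.pos)), ?_,
        fun i _ => by rw [hpow, ← hx, pow_mod_orderOf]⟩
      intro a ha b hb e
      simp only [coe_range, Set.mem_Iio] at ha hb
      have hcop : Nat.Coprime q (s j) := hq.coprime_iff_not_dvd.2 fun hd => by
        have h3 := hgeom j
        rw [(ZMod.natCast_eq_zero_iff _ _).2 hd, zero_mul] at h3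
        refine hnc j h0 hj (mul_inv_eq_iff_eq_mul.1 ((hcj j).trans ?_))
        exact (hmod _).2 (by rw [Nat.cast_pow]; exact (sub_eq_zero.1 h3.symm))
      have := Nat.ModEq.cancel_right_of_coprime hcop (e : a * s j ≡ b * s j [MOD q])
      rwa [Nat.ModEq, Nat.mod_eq_of_lt ha, Nat.mod_eq_of_lt hb] at this) hv
  exact hv1 ((h.comm_eq_one' rfl (i := (hVp ⟨v, hv⟩).choose) (j := 1) hp hq hqp.symm
    (by simpa using congrArg Subtype.val (hVp ⟨v, hv⟩).choose_spec) (by rwa [pow_one])).elim id id)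

end Fpf

end CfsgLib.PrimeOrders
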