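import Cfsg.Agent.Lib.PrimeOrders.Embedded
import Cfsg.Agent.Lib.Invol.StronglyEmbeddedOrbits
import Cfsg.Agent.S0340

/-!
# A normal Sylow two-subgroup in a strongly embedded local gives a Zassenhaus group
-/

set_option autoImplicit false
set_option linter.style.haveILetI false

namespace CfsgLib.PrimeOrders

open Subgroup MulAction

universe u

variable {G : Type u} [Group G] [Finite G]
variable {M T : Subgroup G} {x a : G} {p : ℕ}

/-- The data of a strongly embedded `M = T ⟨x⟩`. -/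
structure TIData (M T : Subgroup G) (x a : G) (p : ℕ) : Prop where
  hyp : Hyp G
  data : SylData M T T x a p 0
  se : Cfsg.IsStronglyEmbedded M

variable (d : TIData M T x a p)
include d

theorem TIData.a_eq : a = 1 := by simpa using d.data.ha

theorem TIData.mem {g : G} (hg : g ∈ M) : ∃ t ∈ T, ∃ i : ℕ, g = t * x ^ i := by
  obtain ⟨t, ht, i, j, e⟩ := d.data.mem g hg
  exact ⟨t, ht, i, by rw [e, d.a_eq, one_pow, mul_one]⟩

theorem TIData.orderOf_of_notMem {g : G} (hg : g ∈ M) (hgT : g ∉ T) : orderOf g = p := by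
  obtain ⟨t, ht, i, rfl⟩ := d.mem hg
  exact d.data.orderOf_coset d.hyp ht fun e => hgT (by rw [e, mul_one]; exact ht)

theorem TIData.invol_mem {g : G} (hg : g ∈ M) (ho : orderOf g = 2) : g ∈ T := by
  by_contra h
  exact d.data.hp2 ((d.orderOf_of_notMem hg h).symm.trans ho)

theorem TIData.card_M : Nat.card M = Nat.card T * p := by
  haveI : NeZero p := ⟨d.data.hp.ne_zero⟩
  rw [← Nat.card_fin p, ← Nat.card_prod]
  refine (Nat.card_congr (Equiv.ofBijective (fun q : T × Fin p => (⟨(q.1 : G) * x ^ (q.2 : ℕ),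
    mul_mem (d.data.le q.1.2) (pow_mem d.data.xX _)⟩ : M)) ⟨?_, ?_⟩)).symm
  · rintro ⟨t, i⟩ ⟨t', j⟩ e
    have e' : (t : G) * x ^ (i : ℕ) = t' * x ^ (j : ℕ) := congrArg Subtype.val e
    have key : ∀ (i j : Fin p) (t t' : T), (i : ℕ) ≤ j → (t : G) * x ^ (i : ℕ) = t' * x ^ (j : ℕ) →
        i = j := fun i j t t' hle e => by
      have h2 : x ^ ((j : ℕ) - i) = (t' : G)⁻¹ * t := by
        rw [pow_sub _ hle, eq_inv_mul_iff_mul_eq, ← mul_assoc, ← e, mul_inv_cancel_right]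
      have h3 : x ^ ((j : ℕ) - i) = 1 :=
        d.data.pow_x_eq_one d.hyp (h2 ▸ mul_mem (inv_mem t'.2) t.2)
      rw [← orderOf_dvd_iff_pow_eq_one, d.data.hx] at h3
      have h4 := Nat.eq_zero_of_dvd_of_lt h3 (lt_of_le_of_lt (Nat.sub_le _ _) j.2)
      exact Fin.ext (by omega)
    have hij : i = j := (le_total (i : ℕ) j).elim (fun h => key i j t t' h e')
      fun h => (key j i t' t h e'.symm).symm
    subst hij
    exact Prod.ext (Subtype.ext (mul_right_cancel e')) rfl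
  · rintro ⟨g, hg⟩
    obtain ⟨t, ht, i, rfl⟩ := d.mem hg
    exact ⟨(⟨t, ht⟩, ⟨i % p, Nat.mod_lt _ d.data.hp.pos⟩), Subtype.ext (by
      show t * x ^ (i % p) = _
      rw [← d.data.hx, pow_mod_orderOf])⟩

theorem TIData.card_odd_le {D : Subgroup G} (hD : D ≤ M) (hodd : Odd (Nat.card D)) :
    Nat.card D = 1 ∨ Nat.card D = p := by
  refine (Nat.dvd_prime d.data.hp).1 ?_
  obtain ⟨j, hj⟩ := IsPGroup.iff_card (p := 2).1 d.data.two
  have h := card_dvd_of_le hD
  rw [d.card_M, hj] at h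
  exact ((Nat.coprime_two_right.2 hodd).pow_right j).dvd_of_dvd_mul_left h

/-- There are exactly `p` involutions in `M`, and two conjugates of `M` meet in a group of order `p`. -/
theorem TIData.card_inter {g : G} (hg : g ∉ M) :
    Nat.card (M ⊓ M.map (MulAut.conj g).toMonoidHom : Subgroup G) = p ∧
      Nat.card {t : G // orderOf t = 2 ∧ t ∈ M} = p := by
  haveI : Fact (Nat.Prime 2) := ⟨Nat.prime_two⟩
  set D := M ⊓ M.map (MulAut.conj g).toMonoidHom
  have hodd : Odd (Nat.card D) := d.se.2.2 g hg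
  obtain ⟨z, hzM, hzo⟩ : ∃ z ∈ omegaZ T, z ≠ 1 := by
    obtain ⟨⟨z, hz⟩, hz1⟩ := Subgroup.ne_bot_iff_exists_ne_one.1 d.data.omegaZ_ne_bot
    exact ⟨z, hz, fun e => hz1 (Subtype.ext e)⟩
  have hz2 : orderOf z = 2 := orderOf_eq_prime (by rw [pow_two]; exact hzM.2.1) hzo
  have hz : z ∈ M := d.data.le hzM.1
  have htr : ∀ t, orderOf t = 2 → t ∈ M → ∃ c ∈ D, c * z * c⁻¹ = t := fun t ht htM =>
    CfsgLib.Invol.transitive_two_point d.se hz2 hz htM ht
  have hc : ∀ c ∈ D, c * z = z * c → c = 1 := fun c hc e => by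
    refine (d.hyp.comm_eq_one e ?_).resolve_right hzo
    rw [hz2, Nat.coprime_two_right]
    exact Odd.of_dvd_nat hodd (Subgroup.orderOf_dvd_natCard D hc)
  have hcard : Nat.card {t : G // orderOf t = 2 ∧ t ∈ M} = Nat.card D := by
    refine (Nat.card_congr (Equiv.ofBijective (fun c : D => (⟨(c : G) * z * (c : G)⁻¹,
      CfsgLib.Invol.invol_conj hz2 _, mul_mem (mul_mem c.2.1 hz) (inv_mem c.2.1)⟩ :
        {t : G // orderOf t = 2 ∧ t ∈ M})) ⟨?_, ?_⟩)).symm
    · intro c c' e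
      have e' : (c : G) * z * (c : G)⁻¹ = c' * z * (c' : G)⁻¹ := congrArg Subtype.val e
      have := hc ((c' : G)⁻¹ * c) (mul_mem (inv_mem c'.2) c.2) (by
        calc (c' : G)⁻¹ * c * z = (c' : G)⁻¹ * ((c : G) * z * (c : G)⁻¹) * c := by group
          _ = _ := by rw [e']; group)
      exact Subtype.ext (inv_mul_eq_one.1 this).symm
    · rintro ⟨t, ht, htM⟩
      obtain ⟨c, hc', e⟩ := htr t ht htM
      exact ⟨⟨c, hc'⟩, Subtype.ext e⟩
  rw [hcard]
  rcases d.card_odd_le inf_le_left hodd with e | e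
  · exfalso
    obtain ⟨c, hc', hce⟩ := htr (x * z * x⁻¹) (CfsgLib.Invol.invol_conj hz2 x)
      (mul_mem (mul_mem d.data.xX hz) (inv_mem d.data.xX))
    rw [show c = 1 from mem_bot.1 (card_eq_one.1 e ▸ hc'), one_mul, inv_one, mul_one] at hce
    exact hzo (d.data.eq_one_of_comm d.hyp d.data.hx hzM.1 (mul_inv_eq_iff_eq_mul.1 hce.symm))
  · exact ⟨e, e⟩

omit d in
theorem stabilizer_mk (g : G) :
    stabilizer G (g : G ⧸ M) = M.map (MulAut.conj g).toMonoidHom := by
  ext h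
  rw [mem_stabilizer_iff, MulAction.Quotient.smul_mk, smul_eq_mul, QuotientGroup.eq]
  constructor
  · intro hh
    exact ⟨((h * g)⁻¹ * g)⁻¹, inv_mem hh, by
      show g * ((h * g)⁻¹ * g)⁻¹ * g⁻¹ = h
      group⟩
  · rintro ⟨m, hm, rfl⟩
    simp only [MulEquiv.coe_toMonoidHom, MulAut.conj_apply]
    rw [show (g * m * g⁻¹ * g)⁻¹ * g = m⁻¹ by group]
    exact inv_mem hm

omit d in
theorem stabilizer_base : stabilizer G ((1 : G) : G ⧸ M) = M := by
  ext h
  rw [mem_stabilizer_iff, CfsgLib.Invol.fixed_one_iff]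

theorem TIData.card_pair {y : G ⧸ M} (hy : y ≠ ((1 : G) : G ⧸ M)) :
    Nat.card (M ⊓ stabilizer G y : Subgroup G) = p := by
  obtain ⟨g, rfl⟩ := QuotientGroup.mk_surjective y
  rw [stabilizer_mk]
  refine (d.card_inter fun hg => hy ?_).1
  rwa [QuotientGroup.eq, mul_one, inv_mem_iff]

/-- A pair stabilizer fixes only its two points. -/
theorem TIData.two_fixed {y y' : G ⧸ M} (hy : y ≠ ((1 : G) : G ⧸ M))
    (hy' : y' ≠ ((1 : G) : G ⧸ M)) (h : M ⊓ stabilizer G y ≤ stabilizer G y') : y' = y := by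
  classical
  by_contra hne
  haveI : Fact p.Prime := ⟨d.data.hp⟩
  haveI := Fintype.ofFinite G
  set P := M ⊓ stabilizer G y with hP
  have hPc : Nat.card P = p := d.card_pair hy
  set x0 : G ⧸ M := ((1 : G) : G ⧸ M)
  set F : Set (G ⧸ M) := {w | P ≤ stabilizer G w}
  have hx0 : x0 ∈ F := show P ≤ stabilizer G x0 by rw [stabilizer_base]; exact inf_le_left
  have hpair : ∀ w ∈ F, w ≠ x0 → P = M ⊓ stabilizer G w := fun w hw hw0 =>
    eq_of_le_of_card_ge (le_inf inf_le_left hw) (by rw [d.card_pair hw0, hPc])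
  set N := normalizer (P : Set G) with hN
  -- swapping involutions normalize `P`
  have hswap : ∀ w ∈ F, w ≠ x0 → ∀ i : G, orderOf i = 2 → i • x0 = w → i ∈ N := by
    intro w hw hw0 i hi hiw
    refine mem_normalizer_of_map_le ?_
    rintro _ ⟨c, hc, rfl⟩
    rw [hpair w hw hw0] at hc ⊢
    have hi' : i • w = x0 := by rw [← hiw, ← mul_smul, CfsgLib.Invol.invol_mul_self hi, one_smul]
    have h1 : c • x0 = x0 := CfsgLib.Invol.fixed_one_iff.2 hc.1
    have h2 : c • w = w := hc.2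
    refine ⟨CfsgLib.Invol.fixed_one_iff.1 ?_, ?_⟩
    · show (i * c * i⁻¹) • x0 = x0
      rw [CfsgLib.Invol.invol_inv hi, mul_smul, mul_smul, hiw, h2, hi']
    · show (i * c * i⁻¹) • w = w
      rw [CfsgLib.Invol.invol_inv hi, mul_smul, mul_smul, hi', h1, hiw]
  haveI : Nontrivial P := Finite.one_lt_card_iff_nontrivial.1 (hPc ▸ d.data.hp.one_lt)
  haveI : IsCyclic P := isCyclic_of_prime_card hPc
  obtain ⟨⟨c0, hc0⟩, hgen⟩ := IsCyclic.exists_generator (α := P)
  have hc0o : orderOf c0 = p := by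
    rw [← Subgroup.orderOf_mk c0 hc0, orderOf_eq_card_of_forall_mem_zpowers hgen, hPc]
  have hPeq : zpowers c0 = P := eq_of_le_of_card_ge (zpowers_le.2 hc0)
    (by rw [Nat.card_zpowers, hc0o, hPc])
  have hNconj : ∀ g ∈ N, g * c0 * g⁻¹ ∈ P := fun g hg => (mem_normalizer_iff.1 hg c0).1 hc0
  -- involutions of `N` invert `P`
  have hinv : ∀ i ∈ N, orderOf i = 2 → i * c0 * i⁻¹ = c0⁻¹ := by
    intro i hi hio
    obtain ⟨j, hj⟩ := exists_pow_of_mem_zpowers (hPeq.symm ▸ hNconj i hi)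
    have hii := CfsgLib.Invol.invol_inv hio
    have hij : i * (i * c0 * i⁻¹) * i⁻¹ = c0 := by
      rw [hii, ← mul_assoc, ← mul_assoc, CfsgLib.Invol.invol_mul_self hio, one_mul, mul_assoc,
        CfsgLib.Invol.invol_mul_self hio, mul_one]
    have hh : i * (c0 * (i * c0 * i⁻¹)) = (c0 * (i * c0 * i⁻¹)) * i := by
      calc i * (c0 * (i * c0 * i⁻¹)) = (i * c0 * i⁻¹) * (i * (i * c0 * i⁻¹) * i⁻¹) * i := by group
        _ = (i * c0 * i⁻¹) * c0 * i := by rw [hij]
        _ = c0 * (i * c0 * i⁻¹) * i := by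
          rw [← hj, ((Commute.refl c0).pow_left j).eq]
    have hpow : (c0 * (i * c0 * i⁻¹)) ^ p = 1 := by
      rw [← hj, ((Commute.refl c0).pow_right j).mul_pow, ← pow_mul, mul_comm j, pow_mul, ← hc0o,
        pow_orderOf_eq_one, one_pow, one_mul]
    have h1 := (d.hyp.comm_eq_one' hh.symm (i := 1) (j := 1) d.data.hp Nat.prime_two d.data.hp2
      (by rwa [pow_one]) (by rw [pow_one, ← hio, pow_orderOf_eq_one])).resolve_right
      (CfsgLib.Invol.invol_ne_one hio)
    exact eq_inv_of_mul_eq_one_right h1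
  -- the orbit of `x0` under `N` is `F`
  have horb : ∀ w, w ∈ orbit N x0 ↔ w ∈ F := by
    intro w
    constructor
    · rintro ⟨g, rfl⟩ c hc
      rw [mem_stabilizer_iff]
      show c • (g : G) • x0 = (g : G) • x0
      have hc' : (g : G)⁻¹ * c * g ∈ P := by
        simpa using (mem_normalizer_iff.1 (inv_mem g.2) c).1 hc
      have := mem_stabilizer_iff.1 (hx0 hc')
      calc c • (g : G) • x0 = (g : G) • ((g : G)⁻¹ * c * g) • x0 := by
            rw [smul_smul, smul_smul]; congr 1; group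
        _ = (g : G) • x0 := by rw [this]
    · intro hw
      rcases eq_or_ne w x0 with rfl | hw0
      · exact mem_orbit_self _
      obtain ⟨⟨i, hi, hiw⟩⟩ : Nonempty {i : G // orderOf i = 2 ∧ i • x0 = w} := by
        refine (Nat.card_pos_iff.1 ?_).1
        rw [CfsgLib.Invol.card_swap_eq d.se x0 w hw0.symm]
        obtain ⟨g, rfl⟩ := QuotientGroup.mk_surjective w
        rw [(d.card_inter fun hg => hw0 (by rwa [QuotientGroup.eq, mul_one, inv_mem_iff])).2]
        exact d.data.hp.pos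
      exact ⟨⟨i, hswap w hw hw0 i hi hiw⟩, hiw⟩
  -- the stabilizer of `x0` in `N` is `P`
  have hstab : stabilizer N x0 = P.subgroupOf N := by
    ext ⟨g, hg⟩
    rw [mem_stabilizer_iff, mem_subgroupOf]
    show g • x0 = x0 ↔ g ∈ P
    rw [CfsgLib.Invol.fixed_one_iff]
    refine ⟨fun hgM => ?_, fun h => h.1⟩
    -- `g` centralizes `c0`
    obtain ⟨t, ht, i, rfl⟩ := d.mem hgM
    obtain ⟨t0, ht0, i0, hce⟩ := d.mem (hc0 : c0 ∈ P).1
    have hcm : t * x ^ i * c0 * (t * x ^ i)⁻¹ * c0⁻¹ ∈ T := by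
      rw [hce, show t * x ^ i * (t0 * x ^ i0) * (t * x ^ i)⁻¹ * (t0 * x ^ i0)⁻¹ =
        t * (x ^ i * t0 * (x ^ i)⁻¹) * (x ^ i0 * t⁻¹ * (x ^ i0)⁻¹) * t0⁻¹ by group]
      exact mul_mem (mul_mem (mul_mem ht (d.data.conj_mem_O (pow_mem d.data.xX i) ht0))
        (d.data.conj_mem_O (pow_mem d.data.xX i0) (inv_mem ht))) (inv_mem ht0)
    have hcP : t * x ^ i * c0 * (t * x ^ i)⁻¹ * c0⁻¹ ∈ P :=
      mul_mem (hNconj _ hg) (inv_mem hc0)
    have h1 : t * x ^ i * c0 * (t * x ^ i)⁻¹ * c0⁻¹ = 1 := by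
      obtain ⟨m, hm⟩ := d.data.two ⟨_, hcm⟩
      refine (d.hyp.comm_eq_one' rfl (i := 1) (j := m) d.data.hp Nat.prime_two d.data.hp2 ?_
        (by simpa using congrArg Subtype.val hm)).elim id id
      rw [pow_one]
      have := pow_card_eq_one' (G := P) (x := ⟨_, hcP⟩)
      rw [hPc] at this
      simpa using congrArg Subtype.val this
    -- the centralizer of `c0` in `M` has odd order
    set C := M ⊓ centralizer ({c0} : Set G)
    have hC : IsPGroup p C :=
      (d.hyp.isPGroup_centralizer d.data.hp (g := c0) (dvd_of_eq hc0o.symm)).to_inf_right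
    obtain ⟨e, he⟩ := IsPGroup.iff_card.1 hC
    have hPC : P ≤ C := fun c hc => ⟨hc.1, by
      obtain ⟨j, rfl⟩ := exists_pow_of_mem_zpowers (hPeq.symm ▸ hc)
      exact mem_centralizer_singleton_iff.2 ((Commute.refl c0).pow_left j).eq⟩
    have hCP : P = C := by
      refine eq_of_le_of_card_ge hPC ?_
      rcases d.card_odd_le (inf_le_left : C ≤ M) (by
        rw [he]; exact ((d.data.hp.odd_of_ne_two d.data.hp2)).pow) with e1 | e1
      · rw [e1]; exact Nat.card_pos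
      · rw [e1, hPc]
    rw [hCP]
    exact ⟨hgM, mem_centralizer_singleton_iff.2
      (mul_inv_eq_iff_eq_mul.1 (mul_inv_eq_one.1 h1))⟩
  -- counting
  have hFN : Nat.card F * p = Nat.card N := by
    rw [← index_mul_card (stabilizer N x0), index_stabilizer, hstab,
      Nat.card_congr (subgroupOfEquivOfLe (le_normalizer : P ≤ N)).toEquiv, hPc,
      show orbit N x0 = F from Set.ext horb, Nat.card_coe_set_eq]
  set C := centralizer ({c0} : Set G) ⊓ N
  obtain ⟨e, he⟩ := IsPGroup.iff_card.1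
    ((d.hyp.isPGroup_centralizer d.data.hp (g := c0) (dvd_of_eq hc0o.symm)).to_inf_left (K := N))
  have hsw : ∀ w : {w : G ⧸ M // w ∈ F ∧ w ≠ x0}, Nat.card {i : G // orderOf i = 2 ∧ i • x0 = w.1} = p := by
    rintro ⟨w, hw, hw0⟩
    obtain ⟨g, rfl⟩ := QuotientGroup.mk_surjective w
    rw [CfsgLib.Invol.card_swap_eq d.se x0 _ hw0.symm]
    exact (d.card_inter fun hg => hw0 (by rwa [QuotientGroup.eq, mul_one, inv_mem_iff])).2
  have hS : Nat.card (Σ w : {w : G ⧸ M // w ∈ F ∧ w ≠ x0}, {i : G // orderOf i = 2 ∧ i • x0 = w.1}) =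
      (Nat.card F - 1) * p := by
    rw [Nat.card_sigma, Finset.sum_congr rfl fun w _ => hsw w, Finset.sum_const, Finset.card_univ,
      smul_eq_mul, ← Nat.card_eq_fintype_card]
    congr 1
    rw [Nat.card_coe_set_eq, ← Set.ncard_sdiff_singleton_of_mem hx0, ← Nat.card_coe_set_eq]
    exact Nat.card_congr (Equiv.subtypeEquivRight fun w => by simp)
  obtain ⟨i0, hi0, hi0N⟩ : ∃ i0 : G, orderOf i0 = 2 ∧ i0 ∈ N := by
    have hyF : y ∈ F := (inf_le_right : P ≤ _)
    obtain ⟨⟨i, hi, hiw⟩⟩ : Nonempty {i : G // orderOf i = 2 ∧ i • x0 = y} :=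
      (Nat.card_pos_iff.1 (by rw [hsw ⟨y, hyF, hy⟩]; exact d.data.hp.pos)).1
    exact ⟨i, hi, hswap y hyF hy i hi hiw⟩
  have hle : (Nat.card F - 1) * p ≤ Nat.card C := by
    rw [← hS]
    refine Nat.card_le_card_of_injective (fun q => (⟨(q.2 : G) * i0, ?_, ?_⟩ : C)) ?_
    · have h1 := hinv _ (hswap _ q.1.2.1 q.1.2.2 _ q.2.2.1 q.2.2.2) q.2.2.1
      have h2 := hinv i0 hi0N hi0
      refine mem_centralizer_singleton_iff.2 ?_
      have h3 : (q.2 : G) * c0⁻¹ * (q.2 : G)⁻¹ = c0 := by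
        rw [← conj_inv, h1, inv_inv]
      calc (q.2 : G) * i0 * c0 = (q.2 : G) * (i0 * c0 * i0⁻¹) * i0 := by group
        _ = (q.2 : G) * c0⁻¹ * i0 := by rw [h2]
        _ = ((q.2 : G) * c0⁻¹ * (q.2 : G)⁻¹) * (q.2 : G) * i0 := by group
        _ = c0 * ((q.2 : G) * i0) := by rw [h3]; group
    · exact mul_mem (hswap _ q.1.2.1 q.1.2.2 _ q.2.2.1 q.2.2.2) hi0N
    · rintro ⟨⟨w, hw⟩, i, hi⟩ ⟨⟨w', hw'⟩, i', hi'⟩ e1
      obtain rfl : i = i' := mul_right_cancel (congrArg Subtype.val e1)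
      obtain rfl : w = w' := hi.2.symm.trans hi'.2
      rfl
  have hdvd : Nat.card C ∣ Nat.card N := card_dvd_of_le inf_le_right
  have h2N : 2 ∣ Nat.card N := hi0 ▸ Subgroup.orderOf_dvd_natCard N hi0N
  obtain ⟨m, hm⟩ := hdvd
  have hm2 : 2 ≤ m := by
    rcases m with _ | _ | m
    · rw [mul_zero] at hm; exact absurd hm Nat.card_pos.ne'
    · simp only [zero_add, mul_one] at hm
      rw [hm, show Nat.card C = p ^ e from he] at h2N
      exact absurd ((Nat.prime_dvd_prime_iff_eq Nat.prime_two d.data.hp).1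
        (Nat.prime_two.dvd_of_dvd_pow h2N)) (Ne.symm d.data.hp2)
    · omega
  have hF3 : 3 ≤ Nat.card F := by
    have hsub : ({x0, y, y'} : Finset (G ⧸ M)) ⊆ F.toFinite.toFinset := by
      intro w hw
      simp only [Finset.mem_insert, Finset.mem_singleton] at hw
      rw [Set.Finite.mem_toFinset]
      rcases hw with rfl | rfl | rfl
      exacts [hx0, (inf_le_right : P ≤ stabilizer G _), h]
    have h3 := Finset.card_le_card hsub
    rw [Finset.card_insert_of_notMem (by simp [hy.symm, hy'.symm]),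
      Finset.card_insert_of_notMem (by simp [Ne.symm hne]), Finset.card_singleton,
      ← Set.ncard_eq_toFinset_card F] at h3
    rw [Nat.card_coe_set_eq]
    omega
  have h4 : 2 * Nat.card C ≤ Nat.card F * p := by
    rw [hFN, hm, mul_comm (Nat.card C)]
    exact Nat.mul_le_mul_right _ hm2
  have hpp := d.data.hp.two_le
  have h5 : 2 * ((Nat.card F - 1) * p) ≤ Nat.card F * p := (Nat.mul_le_mul_left 2 hle).trans h4
  rw [← mul_assoc] at h5
  have := Nat.le_of_mul_le_mul_right h5 (by omega)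
  omega

/-- `M` is transitive on the other points. -/
theorem TIData.exists_smul {y y' : G ⧸ M} (hy : y ≠ ((1 : G) : G ⧸ M))
    (hy' : y' ≠ ((1 : G) : G ⧸ M)) : ∃ m ∈ M, m • y = y' := by
  classical
  -- each pair stabilizer meets the coset `T x` exactly once
  have hmeet : ∀ w : G ⧸ M, w ≠ ((1 : G) : G ⧸ M) → ∃ t ∈ T, t * x ∈ M ⊓ stabilizer G w := by
    intro w hw
    have hc := d.card_pair hw
    haveI : Nontrivial (M ⊓ stabilizer G w : Subgroup G) :=
      Finite.one_lt_card_iff_nontrivial.1 (hc ▸ d.data.hp.one_lt)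
    obtain ⟨⟨g, hg⟩, hg1⟩ := exists_ne (1 : (M ⊓ stabilizer G w : Subgroup G))
    have hgo : orderOf g = p := by
      refine ((Nat.dvd_prime d.data.hp).1 (hc ▸ Subgroup.orderOf_dvd_natCard _ hg)).resolve_left
        fun e => hg1 (Subtype.ext (orderOf_eq_one_iff.1 e))
    obtain ⟨t, ht, i, rfl⟩ := d.mem hg.1
    have hi : ¬ p ∣ i := fun hd => by
      rw [← d.data.hx, orderOf_dvd_iff_pow_eq_one] at hd
      rw [hd, mul_one] at hgo
      obtain ⟨m, hm⟩ := IsPGroup.iff_orderOf.1 d.data.two ⟨t, ht⟩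
      rw [Subgroup.orderOf_mk, hgo] at hm
      exact d.data.hp2 ((Nat.prime_dvd_prime_iff_eq d.data.hp Nat.prime_two).1
        (d.data.hp.dvd_of_dvd_pow (dvd_of_eq hm)))
    obtain ⟨j, hj⟩ := exists_pow_eq_self_of_coprime (x := x) (n := i)
      (by rw [d.data.hx]; exact (d.data.hp.coprime_iff_not_dvd.2 hi).symm)
    obtain ⟨t', ht', e⟩ := d.data.pow_of_coset ht i j
    rw [pow_mul, hj] at e
    exact ⟨t', ht', e ▸ pow_mem hg j⟩
  set X := {w : G ⧸ M // w ≠ ((1 : G) : G ⧸ M)}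
  choose f hf1 hf2 using hmeet
  have hXT : Nat.card X ≤ Nat.card T := by
    refine Nat.card_le_card_of_injective (fun w : X => (⟨f w.1 w.2, hf1 w.1 w.2⟩ : T)) ?_
    intro w w' e
    have e' : f w.1 w.2 = f w'.1 w'.2 := congrArg Subtype.val e
    have h2 := hf2 w.1 w.2
    have h2' := hf2 w'.1 w'.2
    rw [← e'] at h2'
    have hne : f w.1 w.2 * x ≠ 1 := fun e1 => d.data.x_ne_one (by
      have hxT : x ∈ T := by rw [eq_inv_of_mul_eq_one_right e1]; exact inv_mem (hf1 w.1 w.2)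
      have := d.data.pow_x_eq_one d.hyp (i := 1) (by rwa [pow_one])
      rwa [pow_one] at this)
    refine Subtype.ext (d.two_fixed w'.2 w.2 ?_)
    have hz : zpowers (f w.1 w.2 * x) = M ⊓ stabilizer G w'.1 := by
      refine eq_of_le_of_card_ge (zpowers_le.2 h2') ?_
      rw [d.card_pair w'.2, Nat.card_zpowers]
      have := (Nat.dvd_prime d.data.hp).1 (d.card_pair w.2 ▸ Subgroup.orderOf_dvd_natCard _ h2)
      rw [this.resolve_left fun e1 => hne (orderOf_eq_one_iff.1 e1)]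
    rw [← hz]
    exact zpowers_le.2 h2.2
  have horb : orbit M y ⊆ {w | w ≠ ((1 : G) : G ⧸ M)} := by
    rintro _ ⟨m, rfl⟩ (e : (m : G) • y = _)
    refine hy ?_
    rw [← inv_smul_smul (m : G) y, e]
    exact CfsgLib.Invol.fixed_one_iff.2 (inv_mem m.2)
  have hcard : Nat.card T = Nat.card (orbit M y) := by
    have hst : stabilizer M y = (M ⊓ stabilizer G y).subgroupOf M := by
      ext m
      rw [mem_stabilizer_iff, mem_subgroupOf, mem_inf, mem_stabilizer_iff]
      exact ⟨fun e => ⟨m.2, e⟩, fun e => e.2⟩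
    have h1 := index_mul_card (stabilizer M y)
    rw [index_stabilizer, hst, Nat.card_congr (subgroupOfEquivOfLe inf_le_left).toEquiv,
      d.card_pair hy, d.card_M, ← Nat.card_coe_set_eq] at h1
    exact (Nat.eq_of_mul_eq_mul_right d.data.hp.pos h1).symm
  have hset : orbit M y = {w | w ≠ ((1 : G) : G ⧸ M)} :=
    Set.eq_of_subset_of_ncard_le horb (by
      rw [← Nat.card_coe_set_eq, ← Nat.card_coe_set_eq, ← hcard]
      exact hXT)
  obtain ⟨m, hm⟩ : y' ∈ orbit M y := hset ▸ hy'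
  exact ⟨m, m.2, hm⟩

theorem TIData.isZassenhaus [IsSimpleGroup G] : Cfsg.IsZassenhausGroup G (G ⧸ M) := by
  have hne : M ≠ ⊤ := d.se.1
  have htrans : ∀ {a b c e : G ⧸ M}, a ≠ b → c ≠ e → ∃ g : G, g • a = c ∧ g • b = e := by
    intro a b c e hab hce
    obtain ⟨g1, hg1⟩ := exists_smul_eq G a ((1 : G) : G ⧸ M)
    obtain ⟨g2, hg2⟩ := exists_smul_eq G ((1 : G) : G ⧸ M) c
    have hb : g1 • b ≠ ((1 : G) : G ⧸ M) := fun h => hab (smul_left_cancel g1 (hg1.trans h.symm))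
    have he : g2⁻¹ • e ≠ ((1 : G) : G ⧸ M) := fun h => hce (by
      rw [← hg2, ← h, smul_inv_smul])
    obtain ⟨m, hm, hme⟩ := d.exists_smul hb he
    refine ⟨g2 * m * g1, ?_, ?_⟩
    · rw [mul_smul, mul_smul, hg1, CfsgLib.Invol.fixed_one_iff.2 hm, hg2]
    · rw [mul_smul, mul_smul, hme, smul_inv_smul]
  have h2pt : IsMultiplyPretransitive G (G ⧸ M) 2 := is_two_pretransitive_iff.2 htrans
  refine ⟨?_, h2pt, ?_, ?_, ?_⟩
  · have hcore : M.normalCore = ⊥ :=
      (IsSimpleGroup.eq_bot_or_eq_top_of_normal M.normalCore inferInstance).resolve_right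
        fun e => hne (top_le_iff.1 (e ▸ normalCore_le M))
    refine ⟨fun {g h} hgh => ?_⟩
    have : h⁻¹ * g ∈ M.normalCore := by
      intro b
      have h1 : (h⁻¹ * g) • ((b⁻¹ : G) : G ⧸ M) = ((b⁻¹ : G) : G ⧸ M) := by
        rw [mul_smul, hgh, inv_smul_smul]
      rw [MulAction.Quotient.smul_mk, QuotientGroup.eq, smul_eq_mul] at h1
      have := inv_mem h1
      simpa [mul_assoc] using this
    rw [hcore, mem_bot] at this
    exact (inv_mul_eq_one.1 this).symm
  · intro g u v w huv hvw huw hu hv hw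
    by_contra hg1
    obtain ⟨g1, hg1'⟩ := exists_smul_eq G u ((1 : G) : G ⧸ M)
    set g' := g1 * g * g1⁻¹
    have hfix : ∀ z : G ⧸ M, g • z = z → g' • (g1 • z) = g1 • z := fun z hz => by
      rw [mul_smul, mul_smul, inv_smul_smul, hz]
    have hv' : g1 • v ≠ ((1 : G) : G ⧸ M) := fun h => huv (smul_left_cancel g1 (hg1'.trans h.symm))
    have hw' : g1 • w ≠ ((1 : G) : G ⧸ M) := fun h => huw (smul_left_cancel g1 (hg1'.trans h.symm))
    have hgP : g' ∈ M ⊓ stabilizer G (g1 • v) := mem_inf.2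
      ⟨CfsgLib.Invol.fixed_one_iff.1 (hg1' ▸ hfix u hu), hfix v hv⟩
    have hc := d.card_pair hv'
    have hz : zpowers g' = M ⊓ stabilizer G (g1 • v) := by
      refine eq_of_le_of_card_ge (zpowers_le.2 hgP) ?_
      rw [hc, Nat.card_zpowers]
      have := (Nat.dvd_prime d.data.hp).1 (hc ▸ Subgroup.orderOf_dvd_natCard _ hgP)
      rw [this.resolve_left fun e1 => hg1 (conj_eq_one_iff.1 (orderOf_eq_one_iff.1 e1))]
    refine hvw (smul_left_cancel g1 (d.two_fixed hv' hw' ?_).symm)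
    rw [← hz]
    exact zpowers_le.2 (hfix w hw)
  · obtain ⟨g, hg⟩ : ∃ g, g ∉ M := SetLike.exists_not_mem_of_ne_top M hne |>.imp fun _ h => h
    have hy : ((g : G) : G ⧸ M) ≠ ((1 : G) : G ⧸ M) := fun h => hg (by
      rwa [QuotientGroup.eq, mul_one, inv_mem_iff] at h)
    have hc := d.card_pair hy
    haveI : Nontrivial (M ⊓ stabilizer G ((g : G) : G ⧸ M) : Subgroup G) :=
      Finite.one_lt_card_iff_nontrivial.1 (hc ▸ d.data.hp.one_lt)
    obtain ⟨⟨h, hh⟩, hh1⟩ := exists_ne (1 : (M ⊓ stabilizer G ((g : G) : G ⧸ M) : Subgroup G))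
    exact ⟨h, fun e => hh1 (Subtype.ext e), _, _, hy.symm, CfsgLib.Invol.fixed_one_iff.2 hh.1, hh.2⟩
  · intro N hN htr
    obtain ⟨g, hg⟩ : ∃ g, g ∉ M := SetLike.exists_not_mem_of_ne_top M hne |>.imp fun _ h => h
    rcases IsSimpleGroup.eq_bot_or_eq_top_of_normal N hN with rfl | rfl
    · obtain ⟨n, hn⟩ := htr.exists_smul_eq ((1 : G) : G ⧸ M) ((g : G) : G ⧸ M)
      change (n : G) • ((1 : G) : G ⧸ M) = _ at hn
      rw [mem_bot.1 n.2, one_smul, QuotientGroup.eq, inv_one, one_mul] at hn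
      exact absurd hn hg
    · refine ⟨((1 : G) : G ⧸ M), fun e => ?_⟩
      have h1 : (⟨x, mem_top x⟩ : (⊤ : Subgroup G)) ∈ stabilizer (⊤ : Subgroup G) ((1 : G) : G ⧸ M) :=
        CfsgLib.Invol.fixed_one_iff.2 d.data.xX
      exact d.data.x_ne_one (congrArg Subtype.val (mem_bot.1 (le_of_eq e h1)))

/-- Strongly embedded with normal Sylow subgroup: `PSL₂`. -/
theorem TIData.exists_psl [IsSimpleGroup G] :
    ∃ (F : Type) (_ : Field F) (_ : Fintype F),
      Nonempty (G ≃* Matrix.ProjectiveSpecialLinearGroup (Fin 2) F) := by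
  rcases Cfsg.Agent.S0340.result d.isZassenhaus with h | ⟨-, m, -, hm⟩
  · exact h
  · refine absurd ?_ d.hyp.five_not_dvd
    rw [hm]
    refine Dvd.dvd.mul_right (Dvd.dvd.mul_left ?_ _) _
    rw [← pow_mul, mul_comm, pow_mul, show (2 : ℕ) ^ 2 = 4 by norm_num]
    refine Nat.dvd_of_mod_eq_zero ?_
    rw [Nat.add_mod, Nat.pow_mod, pow_succ, pow_mul, Nat.mul_mod, Nat.pow_mod]
    norm_num

end CfsgLib.PrimeOrders
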