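import Cfsg.Agent.Lib.PrimeOrders.Overgroup
import Cfsg.Agent.Lib.Invol.StronglyEmbedded
import Cfsg.Agent.Lib.Fusion.Transfer

/-!
# A strongly embedded local subgroup and its Sylow two-subgroup

All local subgroups over one Sylow two-subgroup `T` lie in a single one, `M`; it is strongly embedded
and controls fusion in `T`, so by transfer `T` is normal in `M` and `M = T ⟨x⟩`.
-/

set_option autoImplicit false
set_option linter.style.haveILetI false

namespace CfsgLib.PrimeOrders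

open Subgroup
open scoped commutatorElement

universe u

variable {G : Type u} [Group G] [Finite G]

/-- The largest local subgroup containing `T`. -/
def IsTop (T M : Subgroup G) : Prop := Loc M ∧ T ≤ M ∧ ∀ Y, Loc Y → T ≤ Y → Y ≤ M

theorem sylow_isSyl (T : Sylow 2 G) {X : Subgroup G} (h : (T : Subgroup G) ≤ X) :
    IsSyl (T : Subgroup G) X := by
  haveI : Fact (Nat.Prime 2) := ⟨Nat.prime_two⟩
  refine ⟨h, T.2, fun R _ hR2 => ?_⟩
  obtain ⟨Q, hQ⟩ := hR2.exists_le_sylow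
  rw [← Nat.card_congr (Sylow.equiv Q T).toEquiv]
  exact Subgroup.card_le_of_le hQ

theorem IsTop.unique {T M M' : Subgroup G} (h : IsTop T M) (h' : IsTop T M') : M = M' :=
  le_antisymm (h'.2.2 M h.1 h.2.1) (h.2.2 M' h'.1 h'.2.1)

theorem Loc.map_conj {X : Subgroup G} (hX : Loc X) (g : G) :
    Loc (X.map (MulAut.conj g).toMonoidHom) := by
  obtain ⟨D, hD1, hD2, rfl⟩ := hX
  refine ⟨D.map (MulAut.conj g).toMonoidHom, fun e => hD1 ?_, hD2.map _, ?_⟩
  · rwa [map_eq_bot_iff_of_injective _ (MulAut.conj g).injective] at e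
  · exact Subgroup.map_equiv_normalizer_eq D (MulAut.conj g)

theorem IsTop.map_conj {T M : Subgroup G} (h : IsTop T M) (g : G) :
    IsTop (T.map (MulAut.conj g).toMonoidHom) (M.map (MulAut.conj g).toMonoidHom) := by
  refine ⟨h.1.map_conj g, map_mono h.2.1, fun Y hY hTY y hy => ?_⟩
  have hY' := h.2.2 _ (hY.map_conj g⁻¹) (fun t ht => ⟨g * t * g⁻¹, hTY ⟨t, ht, rfl⟩, by
    simp [MulAut.conj_apply, mul_assoc]⟩)
  exact ⟨g⁻¹ * y * g, hY' ⟨y, hy, by simp [MulAut.conj_apply]⟩, by simp [MulAut.conj_apply, mul_assoc]⟩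

theorem exists_lt_normalizer {T S : Subgroup G} (hT : IsPGroup 2 T) (hlt : S < T) :
    Nat.card S < Nat.card (T ⊓ normalizer (S : Set G) : Subgroup G) := by
  haveI : Fact (Nat.Prime 2) := ⟨Nat.prime_two⟩
  haveI : Group.IsNilpotent T := hT.isNilpotent
  have hlt' : S.subgroupOf T < ⊤ :=
    lt_top_iff_ne_top.2 fun e => hlt.not_ge (subgroupOf_eq_top.1 e)
  obtain ⟨t, htn, htS⟩ := SetLike.exists_of_lt (normalizerCondition_of_isNilpotent _ hlt')
  refine Nat.lt_of_le_of_ne (Subgroup.card_le_of_le (le_inf hlt.le le_normalizer)) fun e => ?_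
  have heq := eq_of_le_of_card_ge (le_inf hlt.le le_normalizer) e.ge
  refine htS (show (t : G) ∈ S from heq ▸ mem_inf.2 ⟨t.2, ?_⟩)
  refine mem_normalizer_iff.2 fun y => ⟨fun hy => ?_, fun hy => ?_⟩
  · exact (mem_normalizer_iff.1 htn ⟨y, hlt.le hy⟩).1 hy
  · have hyT : y ∈ T := by
      have := mul_mem (mul_mem (inv_mem t.2) (hlt.le hy)) t.2
      simpa [mul_assoc] using this
    exact (mem_normalizer_iff.1 htn ⟨y, hyT⟩).2 hy

section
variable (hG : Hyp G) (hsol : SolvableLocals G) (hNK : NoKlein G)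
include hG hsol hNK

theorem exists_top (T : Sylow 2 G) (hT : (T : Subgroup G) ≠ ⊥) : ∃ M, IsTop (T : Subgroup G) M := by
  obtain ⟨U, hU1, hU2, hn, hY⟩ := exists_common hG hsol hNK hT T.2
  exact ⟨normalizer (U : Set G), ⟨U, hU1, hU2, rfl⟩, le_normalizer.trans hn,
    fun Y hYl hTY => hY Y hYl (sylow_isSyl T hTY)⟩

theorem induction_step (n : ℕ) (hn : 2 ≤ n)
    (IH : ∀ (T : Sylow 2 G) (M : Subgroup G), IsTop (T : Subgroup G) M →
      (∀ Y S, Loc Y → IsSyl S Y → S ≤ (T : Subgroup G) → n < Nat.card S → Y ≤ M) ∧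
      (∀ (T' : Sylow 2 G) (M' : Subgroup G), IsTop (T' : Subgroup G) M' →
        n < Nat.card ((T : Subgroup G) ⊓ T' : Subgroup G) → M = M')) :
    ∀ (T : Sylow 2 G) (M : Subgroup G), IsTop (T : Subgroup G) M →
      (∀ Y S, Loc Y → IsSyl S Y → S ≤ (T : Subgroup G) → n ≤ Nat.card S → Y ≤ M) ∧
      (∀ (T' : Sylow 2 G) (M' : Subgroup G), IsTop (T' : Subgroup G) M' →
        n ≤ Nat.card ((T : Subgroup G) ⊓ T' : Subgroup G) → M = M') := by
  haveI : Fact (Nat.Prime 2) := ⟨Nat.prime_two⟩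
  have hne : ∀ T : Sylow 2 G, ∀ S : Subgroup G, S ≤ (T : Subgroup G) → n ≤ Nat.card S →
      S ≠ ⊥ ∧ (T : Subgroup G) ≠ ⊥ := fun T S hS hc =>
    ⟨fun e => by rw [e, Subgroup.card_bot] at hc; omega, fun e => by
      have := Subgroup.card_le_of_le hS
      rw [e, Subgroup.card_bot] at this
      omega⟩
  have hP : ∀ (T : Sylow 2 G) (M : Subgroup G), IsTop (T : Subgroup G) M →
      ∀ Y S, Loc Y → IsSyl S Y → S ≤ (T : Subgroup G) → n ≤ Nat.card S → Y ≤ M := by
    intro T M hM Y S hY hS hST hn'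
    rcases eq_or_lt_of_le hST with rfl | hlt
    · exact hM.2.2 Y hY hS.1
    obtain ⟨U, hU1, hU2, hUn, hUY⟩ := exists_common hG hsol hNK (hne T S hST hn').1 hS.2.1
    have hX : Loc (normalizer (U : Set G)) := ⟨U, hU1, hU2, rfl⟩
    have hA : (T : Subgroup G) ⊓ normalizer (S : Set G) ≤ normalizer (U : Set G) :=
      inf_le_right.trans hUn
    obtain ⟨S', hS', hle⟩ := exists_isSyl hA (T.2.to_inf_left)
    obtain ⟨T', hT'⟩ := hS'.2.1.exists_le_sylow
    have hbig := exists_lt_normalizer T.2 hlt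
    obtain ⟨M', hM'⟩ := exists_top hG hsol hNK T'
      (hne T' S' hT' (hn'.trans (hbig.le.trans (Subgroup.card_le_of_le hle)))).2
    have h1 : M = M' := (IH T M hM).2 T' M' hM' (lt_of_le_of_lt hn' (lt_of_lt_of_le hbig
      (Subgroup.card_le_of_le (le_inf inf_le_left (hle.trans hT')))))
    rw [h1]
    exact (hUY Y hY hS).trans ((IH T' M' hM').1 _ S' hX hS' hT'
      (lt_of_le_of_lt hn' (lt_of_lt_of_le hbig (Subgroup.card_le_of_le hle))))
  refine fun T M hM => ⟨hP T M hM, fun T' M' hM' hn' => ?_⟩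
  set B := (T : Subgroup G) ⊓ T' with hB
  obtain ⟨hB1, hT1⟩ := hne T B inf_le_left hn'
  by_cases hBT : B = (T : Subgroup G)
  · have hTT : (T : Subgroup G) = T' := (T.is_maximal' T'.2 (hBT ▸ inf_le_right)).symm
    exact hM.unique (hTT ▸ hM')
  by_cases hBT' : B = (T' : Subgroup G)
  · have hTT : (T' : Subgroup G) = T := (T'.is_maximal' T.2 (hBT' ▸ inf_le_left)).symm
    exact hM.unique (hTT ▸ hM')
  set Y := normalizer (B : Set G)
  have hY : Loc Y := ⟨B, hB1, T.2.to_inf_left, rfl⟩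
  have h1 := exists_lt_normalizer T.2 (lt_of_le_of_ne inf_le_left hBT)
  have h2 := exists_lt_normalizer T'.2 (lt_of_le_of_ne inf_le_right hBT')
  obtain ⟨S1, hS1, hle1⟩ := exists_isSyl (inf_le_right : (T : Subgroup G) ⊓ Y ≤ Y) (T.2.to_inf_left)
  obtain ⟨S2, hS2, hle2⟩ := exists_isSyl (inf_le_right : (T' : Subgroup G) ⊓ Y ≤ Y) (T'.2.to_inf_left)
  obtain ⟨T1, hT1'⟩ := hS1.2.1.exists_le_sylow
  have hc1 : n ≤ Nat.card S1 := hn'.trans (h1.le.trans (Subgroup.card_le_of_le hle1))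
  obtain ⟨M1, hM1⟩ := exists_top hG hsol hNK T1 (hne T1 S1 hT1' hc1).2
  have e1 : M = M1 := (IH T M hM).2 T1 M1 hM1 (lt_of_le_of_lt hn' (lt_of_lt_of_le h1
    (Subgroup.card_le_of_le (le_inf inf_le_left (hle1.trans hT1')))))
  have hYM : Y ≤ M1 := hP T1 M1 hM1 Y S1 hY hS1 hT1' hc1
  obtain ⟨y, hy, rfl⟩ := hS1.exists_conj hS2
  have hM2 : IsTop ((y • T1 : Sylow 2 G) : Subgroup G) M1 := by
    have h3 := hM1.map_conj y
    have hfix : M1.map (MulAut.conj y).toMonoidHom = M1 := eq_of_le_of_card_ge (by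
        rintro _ ⟨m, hm, rfl⟩
        exact mul_mem (mul_mem (hYM hy) hm) (inv_mem (hYM hy))) (card_conj y M1).ge
    rw [hfix] at h3
    exact h3
  have hS2' : S1.map (MulAut.conj y).toMonoidHom ≤ ((y • T1 : Sylow 2 G) : Subgroup G) := map_mono hT1'
  have e2 : M1 = M' := ((IH T' M' hM').2 _ M1 hM2 (lt_of_le_of_lt hn' (lt_of_lt_of_le h2
    (Subgroup.card_le_of_le (le_inf inf_le_left (hle2.trans hS2')))))).symm
  exact e1.trans e2

/-- Sylow subgroups meeting nontrivially have the same top local subgroup. -/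
theorem top_eq {T T' : Sylow 2 G} {M M' : Subgroup G} (hM : IsTop (T : Subgroup G) M)
    (hM' : IsTop (T' : Subgroup G) M') (h : 2 ≤ Nat.card ((T : Subgroup G) ⊓ T' : Subgroup G)) :
    M = M' := by
  suffices key : ∀ m n, 2 ≤ n → Nat.card G < n + m → ∀ (T : Sylow 2 G) (M : Subgroup G),
      IsTop (T : Subgroup G) M →
      (∀ Y S, Loc Y → IsSyl S Y → S ≤ (T : Subgroup G) → n ≤ Nat.card S → Y ≤ M) ∧
      (∀ (T' : Sylow 2 G) (M' : Subgroup G), IsTop (T' : Subgroup G) M' →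
        n ≤ Nat.card ((T : Subgroup G) ⊓ T' : Subgroup G) → M = M') from
    (key (Nat.card G + 1) 2 le_rfl (by omega) T M hM).2 T' M' hM' h
  intro m
  induction m with
  | zero =>
    intro n _ hlt T M _
    exact ⟨fun Y S _ _ _ hc => absurd (hc.trans (Subgroup.card_le_card_group S)) (by omega),
      fun T' M' _ hc => absurd (hc.trans (Subgroup.card_le_card_group _)) (by omega)⟩
  | succ m ih =>
    intro n hn hlt
    refine induction_step hG hsol hNK n hn fun T M hM => ?_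
    obtain ⟨h1, h2⟩ := ih (n + 1) (by omega) (by omega) T M hM
    exact ⟨h1, h2⟩

/-- The top local subgroup is strongly embedded. -/
theorem stronglyEmbedded [IsSimpleGroup G] (hna : ¬ IsMulCommutative G) (T : Sylow 2 G)
    (hT : (T : Subgroup G) ≠ ⊥) {M : Subgroup G} (hM : IsTop (T : Subgroup G) M) :
    Cfsg.IsStronglyEmbedded M := by
  haveI : Fact (Nat.Prime 2) := ⟨Nat.prime_two⟩
  have hev : Even (Nat.card M) := by
    refine even_iff_two_dvd.2 (dvd_trans ?_ (card_dvd_of_le hM.2.1))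
    haveI : Nontrivial (T : Subgroup G) := (nontrivial_iff_ne_bot _).2 hT
    obtain ⟨m, hm0, hm⟩ := T.2.nontrivial_iff_card.1 inferInstance
    rw [hm]; exact dvd_pow_self 2 hm0.ne'
  have hne : M ≠ ⊤ := fun e => by
    obtain ⟨D, hD1, hD2, rfl⟩ := hM.1
    haveI := normalizer_eq_top_iff.1 e
    rcases IsSimpleGroup.eq_bot_or_eq_top_of_normal D inferInstance with e1 | e1
    · exact hD1 e1
    · refine hna ?_
      subst e1
      have hG2 : IsPGroup 2 G := hD2.of_equiv Subgroup.topEquiv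
      haveI := hG2.isNilpotent
      exact IsSimpleGroup.comm_iff_isSolvable.2 inferInstance |> fun hc => ⟨⟨hc⟩⟩
  refine (CfsgLib.Invol.stronglyEmbedded_iff hne hev).2 fun z hz hzo g hgz => ?_
  -- Sylow subgroups of `G` inside `M` containing a given involution
  have hsyl : ∀ u ∈ M, orderOf u = 2 → ∃ T1 : Sylow 2 G, u ∈ (T1 : Subgroup G) ∧
      (T1 : Subgroup G) ≤ M ∧ IsTop (T1 : Subgroup G) M := by
    intro u hu huo
    obtain ⟨S, hS, hle⟩ := exists_isSyl (zpowers_le.2 hu)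
      (IsPGroup.of_card (n := 1) (by rw [Nat.card_zpowers, huo, pow_one]))
    obtain ⟨m, hm, rfl⟩ := (sylow_isSyl T hM.2.1).exists_conj hS
    refine ⟨m • T, hle (mem_zpowers u), ?_, ?_⟩
    · exact hS.1
    · have h3 := hM.map_conj m
      have hfix : M.map (MulAut.conj m).toMonoidHom = M := eq_of_le_of_card_ge (by
          rintro _ ⟨b, hb, rfl⟩
          exact mul_mem (mul_mem hm hb) (inv_mem hm)) (card_conj m M).ge
      rw [hfix] at h3
      exact h3
  obtain ⟨T1, hz1, hT1M, hM1⟩ := hsyl z hz hzo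
  obtain ⟨T2, hz2, hT2M, hM2⟩ := hsyl _ hgz (CfsgLib.Invol.invol_conj hzo g)
  have hM3 : IsTop ((g • T1 : Sylow 2 G) : Subgroup G) (M.map (MulAut.conj g).toMonoidHom) :=
    hM1.map_conj g
  have hMg : M.map (MulAut.conj g).toMonoidHom = M := by
    refine top_eq hG hsol hNK hM3 hM2 ?_
    exact (CfsgLib.Invol.invol_conj hzo g).ge.trans (Nat.le_of_dvd Nat.card_pos
      (Subgroup.orderOf_dvd_natCard _ (mem_inf.2 ⟨⟨z, hz1, rfl⟩, hz2⟩)))
  -- `g • T1` is a Sylow subgroup of `M`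
  have hgT : ((g • T1 : Sylow 2 G) : Subgroup G) ≤ M := hMg ▸ hM3.2.1
  obtain ⟨m, hm, he⟩ := (sylow_isSyl T1 hT1M).exists_conj (sylow_isSyl (g • T1) hgT)
  have hN : m⁻¹ * g ∈ normalizer ((T1 : Subgroup G) : Set G) := mem_normalizer_of_map_le (by
    rintro _ ⟨t, ht, rfl⟩
    obtain ⟨t', ht', e⟩ : g * t * g⁻¹ ∈ (T1 : Subgroup G).map (MulAut.conj m).toMonoidHom :=
      he ▸ (⟨t, ht, rfl⟩ : g * t * g⁻¹ ∈ ((g • T1 : Sylow 2 G) : Subgroup G))
    change m⁻¹ * g * t * (m⁻¹ * g)⁻¹ ∈ (T1 : Subgroup G)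
    rw [show m⁻¹ * g * t * (m⁻¹ * g)⁻¹ = m⁻¹ * (g * t * g⁻¹) * m by group, ← e]
    simp only [MulEquiv.coe_toMonoidHom, MulAut.conj_apply]
    rw [show m⁻¹ * (m * t' * m⁻¹) * m = t' by group]
    exact ht')
  have hLN : Loc (normalizer ((T1 : Subgroup G) : Set G)) :=
    ⟨T1, fun e => by
      have : z ∈ (⊥ : Subgroup G) := e ▸ hz1
      rw [mem_bot.1 this, orderOf_one] at hzo
      omega, T1.2, rfl⟩
  have := mul_mem hm (hM1.2.2 _ hLN le_normalizer hN)
  rwa [mul_inv_cancel_left] at this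

/-- The top local subgroup has a normal Sylow two-subgroup with a complement of odd prime order. -/
theorem top_structure [IsSimpleGroup G] (hna : ¬ IsMulCommutative G) (T : Sylow 2 G)
    (hT : (T : Subgroup G) ≠ ⊥) {M : Subgroup G} (hM : IsTop (T : Subgroup G) M) :
    ∃ x a p, SylData M (T : Subgroup G) (T : Subgroup G) x a p 0 := by
  haveI : Fact (Nat.Prime 2) := ⟨Nat.prime_two⟩
  have hSE := stronglyEmbedded hG hsol hNK hna T hT hM
  -- control of fusion and transfer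
  have hfoc : (T : Subgroup G) ≤ ⁅(T : Subgroup G), M⁆ := by
    have h1 := CfsgLib.Fusion.commutator_inf_eq_focal (CfsgLib.Fusion.coprime_card_focalQuotient T)
    have h2 : commutator G = ⊤ := by
      rcases IsSimpleGroup.eq_bot_or_eq_top_of_normal (commutator G) inferInstance with e | e
      · exact absurd ⟨⟨fun a b => (commutatorElement_eq_one_iff_mul_comm.1 (mem_bot.1 (e ▸
          commutator_mem_commutator (mem_top a) (mem_top b))))⟩⟩ hna
      · exact e
    rw [h2, top_inf_eq] at h1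
    refine le_trans (le_of_eq h1) (CfsgLib.Fusion.focalSubgroup_le_of_control fun b hb g hgb => ?_)
    rcases eq_or_ne b 1 with rfl | hb1
    · exact ⟨1, one_mem _, by simp⟩
    obtain ⟨m, hm⟩ := IsPGroup.iff_orderOf.1 T.2 ⟨b, hb⟩
    rw [Subgroup.orderOf_mk] at hm
    obtain ⟨j, hj⟩ := exists_orderOf_pow (g := b) (m := 2) (by
      rcases m with _ | m
      · exact absurd (orderOf_eq_one_iff.1 (by rwa [pow_zero] at hm)) hb1
      · rw [hm]; exact dvd_pow_self 2 (Nat.succ_ne_zero m))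
    refine ⟨g, CfsgLib.Invol.mem_of_conj_mem hSE (pow_mem (hM.2.1 hb) j) hj ?_, rfl⟩
    rw [← conj_pow]
    exact pow_mem (hM.2.1 hgb) j
  rcases hM.1.exists_sylData hG hsol (sylow_isSyl T hM.2.1) with ⟨hle, -⟩ | ⟨O, x, a, p, k, d⟩
  · exfalso
    rw [le_antisymm hle hM.2.1] at hfoc
    haveI : Nontrivial (T : Subgroup G) := (nontrivial_iff_ne_bot _).2 hT
    haveI : Group.IsNilpotent (T : Subgroup G) := T.2.isNilpotent
    refine ne_of_lt (Group.IsSolvable.commutator_lt_top_of_nontrivial (T : Subgroup G)) ?_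
    apply Subgroup.map_injective (T : Subgroup G).subtype_injective
    rw [_root_.commutator_def, map_commutator, ← MonoidHom.range_eq_map, range_subtype]
    exact le_antisymm (commutator_le_self _) hfoc
  -- commutators of `M` lie in `O ⟨x⟩`
  have hN : ⁅(T : Subgroup G), M⁆ ≤ O ⊔ zpowers x := by
    set N := O ⊔ zpowers x
    have hNX : N ≤ M := sup_le d.le (zpowers_le.2 d.xX)
    have hxN : x ∈ N := mem_sup_right (mem_zpowers x)
    have ha : a ∈ normalizer (N : Set G) := mem_normalizer_of_map_le (by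
      rw [Subgroup.map_sup]
      refine sup_le ?_ ?_
      · rintro _ ⟨o, ho, rfl⟩
        exact mem_sup_left (d.conj_mem_O d.aX ho)
      · rw [MonoidHom.map_zpowers]
        exact (zpowers_le.2 d.conj).trans le_sup_right)
    have hMN : M ≤ normalizer (N : Set G) := fun g hg => by
      obtain ⟨o, ho, i, j, rfl⟩ := d.mem g hg
      exact mul_mem (mul_mem (le_normalizer (mem_sup_left ho)) (le_normalizer (pow_mem hxN i)))
        (pow_mem ha j)
    haveI : (N.subgroupOf M).Normal := (normal_subgroupOf_iff_le_normalizer hNX).2 hMN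
    set π := QuotientGroup.mk' (N.subgroupOf M)
    have hπ : ∀ g : M, ∃ j : ℕ, π g = π ⟨a, d.aX⟩ ^ j := fun g => by
      obtain ⟨o, ho, i, j, e⟩ := d.mem g g.2
      refine ⟨j, ?_⟩
      rw [show g = (⟨o * x ^ i, mul_mem (d.le ho) (pow_mem d.xX i)⟩ : M) * ⟨a, d.aX⟩ ^ j from
        Subtype.ext (by simpa using e), map_mul, map_pow,
        show π (⟨o * x ^ i, mul_mem (d.le ho) (pow_mem d.xX i)⟩ : M) = 1 from
          (QuotientGroup.eq_one_iff _).2 (mul_mem (mem_sup_left ho) (pow_mem hxN i)), one_mul]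
    rw [commutator_le]
    intro t ht m hm
    obtain ⟨i, hi⟩ := hπ ⟨t, hM.2.1 ht⟩
    obtain ⟨j, hj⟩ := hπ ⟨m, hm⟩
    have h1 : π ⁅(⟨t, hM.2.1 ht⟩ : M), (⟨m, hm⟩ : M)⁆ = 1 := by
      rw [map_commutatorElement, hi, hj, commutatorElement_eq_one_iff_mul_comm]
      exact (Commute.pow_pow (Commute.refl _) i j).eq
    simpa [commutatorElement_def, mem_subgroupOf] using (QuotientGroup.eq_one_iff _).1 h1
  have hTO : (T : Subgroup G) = O := by
    refine le_antisymm (fun t ht => ?_) d.O_le_S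
    obtain ⟨o, ho, e, he, hoe⟩ : ∃ o ∈ O, ∃ e ∈ zpowers x, o * e = t := by
      have h1 := hN (hfoc ht)
      have hle : zpowers x ≤ normalizer (O : Set G) := zpowers_le.2 (d.norm d.xX)
      rw [← SetLike.mem_coe, coe_mul_of_right_le_normalizer_left O (zpowers x) hle] at h1
      exact Set.mem_mul.1 h1
    obtain ⟨i, rfl⟩ := exists_pow_of_mem_zpowers he
    by_cases hi : x ^ i = 1
    · rw [← hoe, hi, mul_one]; exact ho
    exfalso
    have hord := d.orderOf_coset hG ho hi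
    rw [hoe] at hord
    obtain ⟨m, hm⟩ := IsPGroup.iff_orderOf.1 T.2 ⟨t, ht⟩
    rw [Subgroup.orderOf_mk, hord] at hm
    exact d.hp2 ((Nat.prime_dvd_prime_iff_eq d.hp Nat.prime_two).1 (d.hp.dvd_of_dvd_pow (dvd_of_eq hm)))
  have hk : k = 0 := by
    have h1 := d.card_S hG
    rw [← hTO] at h1
    have h2 : 2 ^ k = 1 := by
      have := Nat.card_pos (α := (T : Subgroup G))
      nlinarith
    rcases Nat.eq_zero_or_pos k with h3 | h3
    · exact h3
    · have : 2 ^ 1 ≤ 2 ^ k := Nat.pow_le_pow_right (by norm_num) h3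
      omega
  subst hk
  subst hTO
  exact ⟨x, a, p, d⟩

end

end CfsgLib.PrimeOrders
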