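import Cfsg.Agent.Lib.PrimeOrders.Local
import Cfsg.Agent.Lib.Coprime.FpfAction

/-!
# Consequences of the local structure

An element of `X` outside the Sylow two-subgroup `S` has order `p`; an element `y` of `S` outside
`O` has `|C_O(y)| ^ 2 ≤ |O|`; and unless `Z(O)` has four involution-or-trivial elements, all
maximal elementary subgroups of `S` lie in `O`.
-/

set_option autoImplicit false
set_option linter.style.haveILetI false

namespace CfsgLib.PrimeOrders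

open Subgroup

universe u

variable {G : Type u} [Group G] [Finite G]

/-- `S` is a Sylow two-subgroup of `X`. -/
def IsSyl (S X : Subgroup G) : Prop :=
  S ≤ X ∧ IsPGroup 2 S ∧ ∀ R ≤ X, IsPGroup 2 R → Nat.card R ≤ Nat.card S

theorem exists_isSyl {A X : Subgroup G} (hA : A ≤ X) (hA2 : IsPGroup 2 A) :
    ∃ S, IsSyl S X ∧ A ≤ S := by
  haveI : Fact (Nat.Prime 2) := ⟨Nat.prime_two⟩
  obtain ⟨P, hP⟩ := (hA2.of_equiv (subgroupOfEquivOfLe hA).symm).exists_le_sylow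
  refine ⟨(P : Subgroup X).map X.subtype, ⟨map_subtype_le _, P.2.map _, fun R hR hR2 => ?_⟩,
    fun a ha => ⟨⟨a, hA ha⟩, hP ha, rfl⟩⟩
  obtain ⟨Q, hQ⟩ := (hR2.of_equiv (subgroupOfEquivOfLe hR).symm).exists_le_sylow
  rw [Subgroup.card_map_of_injective X.subtype_injective, ← Nat.card_congr (Sylow.equiv Q P).toEquiv,
    ← Nat.card_congr (subgroupOfEquivOfLe hR).toEquiv]
  exact Subgroup.card_le_of_le hQ

theorem IsSyl.exists_sylow {S X : Subgroup G} (hS : IsSyl S X) :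
    ∃ P : Sylow 2 X, (P : Subgroup X) = S.subgroupOf X := by
  haveI : Fact (Nat.Prime 2) := ⟨Nat.prime_two⟩
  obtain ⟨P, hP⟩ := (hS.2.1.of_equiv (subgroupOfEquivOfLe hS.1).symm).exists_le_sylow
  refine ⟨P, (eq_of_le_of_card_ge hP ?_).symm⟩
  rw [Nat.card_congr (subgroupOfEquivOfLe hS.1).toEquiv]
  have := hS.2.2 ((P : Subgroup X).map X.subtype) (map_subtype_le _) (P.2.map _)
  rwa [Subgroup.card_map_of_injective X.subtype_injective] at this

theorem IsSyl.exists_conj {S R X : Subgroup G} (hS : IsSyl S X) (hR : IsSyl R X) :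
    ∃ g ∈ X, R = S.map (MulAut.conj g).toMonoidHom := by
  haveI : Fact (Nat.Prime 2) := ⟨Nat.prime_two⟩
  obtain ⟨P, hP⟩ := hS.exists_sylow
  obtain ⟨Q, hQ⟩ := hR.exists_sylow
  obtain ⟨g, hg⟩ := MulAction.exists_smul_eq X P Q
  refine ⟨g, g.2, le_antisymm (fun r hr => ?_) ?_⟩
  · have h1 : (⟨r, hR.1 hr⟩ : X) ∈ (Q : Subgroup X) := hQ ▸ hr
    rw [← hg, Sylow.coe_subgroup_smul, hP, Subgroup.mem_smul_pointwise_iff_exists] at h1
    obtain ⟨s, hs, he⟩ := h1
    exact ⟨s, hs, congrArg Subtype.val he⟩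
  · rintro _ ⟨s, hs, rfl⟩
    have h1 : MulAut.conj g • (⟨s, hS.1 hs⟩ : X) ∈ (Q : Subgroup X) := by
      rw [← hg, Sylow.coe_subgroup_smul, hP]
      exact Subgroup.smul_mem_pointwise_smul _ _ _ hs
    rw [hQ] at h1
    exact h1

theorem exists_pow_of_mem_zpowers {g y : G} (h : y ∈ zpowers g) : ∃ i : ℕ, g ^ i = y :=
  mem_powers_iff_mem_zpowers.2 h

section
variable {X O : Subgroup G} {x a : G} {p k : ℕ} (d : LocalData X O x a p k) (hG : Hyp G)
include d

theorem LocalData.conj_mem_O {g o : G} (hg : g ∈ X) (ho : o ∈ O) : g * o * g⁻¹ ∈ O :=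
  (mem_normalizer_iff.1 (d.norm hg) o).1 ho

theorem LocalData.x_ne_one : x ≠ 1 := fun e => by
  have := d.hx
  rw [e, orderOf_one] at this
  exact d.hp.ne_one this.symm

include hG in
/-- `O` contains no nontrivial power of `x`. -/
theorem LocalData.pow_x_eq_one {i : ℕ} (h : x ^ i ∈ O) : x ^ i = 1 := by
  obtain ⟨m, hm⟩ := d.two ⟨_, h⟩
  refine (hG.comm_eq_one' (x := x ^ i) (y := x ^ i) rfl d.hp Nat.prime_two d.hp2 (i := 1) (j := m) ?_
    (by simpa using congrArg Subtype.val hm)).elim id id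
  rw [pow_one, ← pow_mul, mul_comm, pow_mul, ← d.hx, pow_orderOf_eq_one, one_pow]

theorem LocalData.pow_of_coset {o : G} (ho : o ∈ O) (i n : ℕ) :
    ∃ o' ∈ O, (o * x ^ i) ^ n = o' * x ^ (i * n) := by
  induction n with
  | zero => exact ⟨1, one_mem _, by simp⟩
  | succ n ih =>
    obtain ⟨o', ho', e⟩ := ih
    refine ⟨o' * (x ^ (i * n) * o * (x ^ (i * n))⁻¹),
      mul_mem ho' (d.conj_mem_O (pow_mem d.xX _) ho), ?_⟩
    rw [pow_succ, e, mul_add, mul_one, pow_add]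
    group

include hG in
/-- Nontrivial cosets of `O` in `O ⟨x⟩` consist of elements of order `p`. -/
theorem LocalData.orderOf_coset {o : G} (ho : o ∈ O) {i : ℕ} (hi : x ^ i ≠ 1) :
    orderOf (o * x ^ i) = p := by
  obtain ⟨o', ho', e⟩ := d.pow_of_coset ho i (orderOf (o * x ^ i))
  rw [pow_orderOf_eq_one] at e
  have h2 : x ^ (i * orderOf (o * x ^ i)) = 1 := d.pow_x_eq_one hG (by
    rw [eq_inv_of_mul_eq_one_right e.symm]; exact inv_mem ho')
  rw [← orderOf_dvd_iff_pow_eq_one, d.hx] at h2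
  refine hG.orderOf_odd d.hp d.hp2 ((d.hp.dvd_mul.1 h2).resolve_left fun h3 => hi ?_)
  rw [← orderOf_dvd_iff_pow_eq_one, d.hx]
  exact h3

include hG in
/-- An element of odd prime order centralizes nothing in `O`. -/
theorem LocalData.eq_one_of_comm {g v : G} (hg : orderOf g = p) (hv : v ∈ O) (hc : g * v = v * g) :
    v = 1 := by
  obtain ⟨m, hm⟩ := d.two ⟨v, hv⟩
  refine (hG.comm_eq_one' hc d.hp Nat.prime_two d.hp2 (i := 1) (j := m) ?_
    (by simpa using congrArg Subtype.val hm)).resolve_left fun e => ?_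
  · rw [pow_one, ← hg, pow_orderOf_eq_one]
  · rw [e, orderOf_one] at hg; exact d.hp.ne_one hg.symm

theorem LocalData.conj_pow_a (j : ℕ) : a ^ j * x * (a ^ j)⁻¹ ∈ zpowers x := by
  induction j with
  | zero => simp
  | succ j ih =>
    obtain ⟨i, hi⟩ := mem_zpowers_iff.1 d.conj
    rw [pow_succ, show a ^ j * a * x * (a ^ j * a)⁻¹ = a ^ j * (a * x * a⁻¹) * (a ^ j)⁻¹ by group,
      ← hi, ← conj_zpow]
    exact zpow_mem ih i

theorem LocalData.zpowers_x_normalized (g : G) (hg : g ∈ zpowers x) (j : ℕ) :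
    a ^ j * g * (a ^ j)⁻¹ ∈ zpowers x := by
  obtain ⟨i, rfl⟩ := mem_zpowers_iff.1 hg
  rw [← conj_zpow]
  exact zpow_mem (d.conj_pow_a j) i

include hG in
/-- A power of `a` in `O` is trivial modulo `2 ^ k`. -/
theorem LocalData.dvd_of_pow_a_mem {j : ℕ} (h : a ^ j ∈ O) : 2 ^ k ∣ j := by
  refine d.faith j ?_
  obtain ⟨i, hi⟩ := exists_pow_of_mem_zpowers (d.conj_pow_a j)
  have h1 : a ^ j * x * (a ^ j)⁻¹ * x⁻¹ ∈ O := by
    rw [show a ^ j * x * (a ^ j)⁻¹ * x⁻¹ = a ^ j * (x * (a ^ j)⁻¹ * x⁻¹) by group]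
    exact mul_mem h (d.conj_mem_O d.xX (inv_mem h))
  rw [← hi] at h1
  obtain ⟨l, hl⟩ := exists_pow_of_mem_zpowers (g := x)
    (mul_mem (npow_mem_zpowers x i) (inv_mem (mem_zpowers x)))
  rw [← hl] at h1
  rw [d.pow_x_eq_one hG h1, hi] at hl
  exact mul_inv_eq_iff_eq_mul.1 (mul_inv_eq_one.1 hl.symm)

end

section
variable {X O : Subgroup G} {x a : G} {p k : ℕ}

/-- The standard Sylow two-subgroup. -/
theorem LocalData.stdSyl (d : LocalData X O x a p k) (hG : Hyp G) :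
    IsSyl (O ⊔ zpowers a) X ∧ ∀ g, g ∈ O ⊔ zpowers a ↔ ∃ o ∈ O, ∃ j : ℕ, g = o * a ^ j := by
  haveI : Fact (Nat.Prime 2) := ⟨Nat.prime_two⟩
  have hle : zpowers a ≤ normalizer (O : Set G) := zpowers_le.2 (d.norm d.aX)
  have hmem : ∀ g, g ∈ O ⊔ zpowers a ↔ ∃ o ∈ O, ∃ j : ℕ, g = o * a ^ j := fun g => by
    constructor
    · intro hg
      rw [← SetLike.mem_coe, coe_mul_of_right_le_normalizer_left O (zpowers a) hle] at hg
      obtain ⟨o, ho, b, hb, rfl⟩ := Set.mem_mul.1 hg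
      obtain ⟨j, rfl⟩ := exists_pow_of_mem_zpowers hb
      exact ⟨o, ho, j, rfl⟩
    · rintro ⟨o, ho, j, rfl⟩
      exact mul_mem (mem_sup_left ho) (mem_sup_right (npow_mem_zpowers a j))
  have h2 : IsPGroup 2 (O ⊔ zpowers a : Subgroup G) := by
    refine d.two.to_sup_of_normal_left' (fun g => ⟨k, ?_⟩) hle
    obtain ⟨i, hi⟩ := mem_zpowers_iff.1 g.2
    refine Subtype.ext ?_
    rw [Subgroup.coe_pow, ← hi, ← zpow_natCast, ← zpow_mul, mul_comm, zpow_mul, zpow_natCast, d.ha,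
      one_zpow, Subgroup.coe_one]
  have hle' : O ⊔ zpowers a ≤ X := sup_le d.le (zpowers_le.2 d.aX)
  refine ⟨?_, hmem⟩
  obtain ⟨S, hS, hSle⟩ := exists_isSyl hle' h2
  have hle2 : S ≤ O ⊔ zpowers a := by
    intro g hg
    obtain ⟨o, ho, i, j, rfl⟩ := d.mem g (hS.1 hg)
    have h1 : x ^ i ∈ S := by
      have h2 : o⁻¹ * (o * x ^ i * a ^ j) * (a ^ j)⁻¹ ∈ S := mul_mem (mul_mem
        (inv_mem (hSle (mem_sup_left ho))) hg) (inv_mem (hSle (mem_sup_right (npow_mem_zpowers a j))))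
      rwa [show o⁻¹ * (o * x ^ i * a ^ j) * (a ^ j)⁻¹ = x ^ i by group] at h2
    obtain ⟨m, hm⟩ := hS.2.1 ⟨_, h1⟩
    have h3 : x ^ i = 1 := (hG.comm_eq_one' (x := x ^ i) (y := x ^ i) rfl d.hp Nat.prime_two d.hp2
      (i := 1) (j := m) (by rw [pow_one, ← pow_mul, mul_comm, pow_mul, ← d.hx, pow_orderOf_eq_one,
        one_pow]) (by simpa using congrArg Subtype.val hm)).elim id id
    exact (hmem _).2 ⟨o, ho, j, by rw [h3, mul_one]⟩
  rw [le_antisymm hle2 hSle] at hS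
  exact hS

/-- Local data adapted to a given Sylow two-subgroup. -/
structure SylData (X S O : Subgroup G) (x a : G) (p k : ℕ) : Prop extends LocalData X O x a p k where
  syl : IsSyl S X
  memS : ∀ g, g ∈ S ↔ ∃ o ∈ O, ∃ j : ℕ, g = o * a ^ j

theorem exists_sylData (hG : Hyp G) {X : Subgroup G} (hX : Group.IsSolvable X) {D : Subgroup G}
    (hD1 : D ≠ ⊥) (hDX : D ≤ X) (hDn : X ≤ normalizer (D : Set G)) (hD2 : IsPGroup 2 D)
    (hnot : ¬ IsPGroup 2 X) {S : Subgroup G} (hS : IsSyl S X) :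
    ∃ O x a p k, SylData X S O x a p k := by
  obtain ⟨O, x, a, p, k, d⟩ := exists_localData hG hX hD1 hDX hDn hD2 hnot
  obtain ⟨hstd, hmem⟩ := d.stdSyl hG
  obtain ⟨g, hg, rfl⟩ := hstd.exists_conj hS
  set c := MulAut.conj g
  have hO : ∀ o, c o ∈ O ↔ o ∈ O := fun o => ((mem_normalizer_iff.1 (d.norm hg)) o).symm
  refine ⟨O, c x, c a, p, k,
    { le := d.le, norm := d.norm, two := d.two, nebot := d.nebot, maxi := d.maxi, hp := d.hp
      hp2 := d.hp2, kdvd := d.kdvd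
      xX := mul_mem (mul_mem hg d.xX) (inv_mem hg)
      aX := mul_mem (mul_mem hg d.aX) (inv_mem hg)
      hx := by rw [MulEquiv.orderOf_eq, d.hx]
      ha := by rw [← map_pow, d.ha, map_one]
      conj := by
        rw [← map_inv, ← map_mul, ← map_mul]
        obtain ⟨i, hi⟩ := mem_zpowers_iff.1 d.conj
        exact mem_zpowers_iff.2 ⟨i, by rw [← map_zpow, hi]⟩
      faith := fun j hj => d.faith j (c.injective (by simpa only [map_mul, map_pow] using hj))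
      mem := fun y hy => ?_
      syl := hS
      memS := fun y => ?_ }⟩
  · have hy' : c.symm y ∈ X := by
      show g⁻¹ * y * g ∈ X
      exact mul_mem (mul_mem (inv_mem hg) hy) hg
    obtain ⟨o, ho, i, j, e⟩ := d.mem _ hy'
    exact ⟨c o, (hO o).2 ho, i, j, by rw [← map_pow, ← map_pow, ← map_mul, ← map_mul, ← e,
      MulEquiv.apply_symm_apply]⟩
  · constructor
    · rintro ⟨s, hs, rfl⟩
      obtain ⟨o, ho, j, rfl⟩ := (hmem s).1 hs
      exact ⟨c o, (hO o).2 ho, j, by simp [c, map_mul, map_pow]⟩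
    · rintro ⟨o, ho, j, rfl⟩
      refine ⟨c.symm o * a ^ j, (hmem _).2 ⟨_, ?_, j, rfl⟩, ?_⟩
      · rwa [← hO, MulEquiv.apply_symm_apply]
      · show c (c.symm o * a ^ j) = _
        rw [map_mul, MulEquiv.apply_symm_apply, map_pow]

end

/-- The involutions of the centre, with the identity. -/
def omegaZ (O : Subgroup G) : Subgroup G where
  carrier := {w | w ∈ O ∧ w * w = 1 ∧ ∀ o ∈ O, w * o = o * w}
  one_mem' := ⟨one_mem _, one_mul 1, fun o _ => by rw [one_mul, mul_one]⟩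
  mul_mem' := fun {u v} hu hv => ⟨mul_mem hu.1 hv.1, by
      rw [mul_assoc, ← mul_assoc v, hv.2.2 u hu.1, mul_assoc u v v, hv.2.1, mul_one, hu.2.1],
    fun o ho => (Commute.mul_left (hu.2.2 o ho) (hv.2.2 o ho)).eq⟩
  inv_mem' := fun {u} hu => by
    rw [inv_eq_of_mul_eq_one_right hu.2.1]; exact hu

/-- Elementary two-subgroups. -/
def El (A : Subgroup G) : Prop := ∀ a ∈ A, a * a = 1

theorem El.comm {A : Subgroup G} (h : El A) {u v : G} (hu : u ∈ A) (hv : v ∈ A) : u * v = v * u := by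
  calc u * v = (u * v)⁻¹ := (inv_eq_of_mul_eq_one_right (h _ (mul_mem hu hv))).symm
    _ = v * u := by rw [mul_inv_rev, inv_eq_of_mul_eq_one_right (h u hu),
      inv_eq_of_mul_eq_one_right (h v hv)]

theorem el_omegaZ (O : Subgroup G) : El (omegaZ O) := fun _ h => h.2.1

/-- Elementary subgroups of `S` of the largest order. -/
def MaxEl (S A : Subgroup G) : Prop :=
  A ≤ S ∧ El A ∧ ∀ B ≤ S, El B → Nat.card B ≤ Nat.card A

section
variable {X S O : Subgroup G} {x a : G} {p k : ℕ} (d : SylData X S O x a p k) (hG : Hyp G)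
include d

theorem SylData.O_le_S : O ≤ S := fun o ho => (d.memS o).2 ⟨o, ho, 0, by simp⟩

theorem SylData.S_le_normalizer : S ≤ normalizer (O : Set G) := d.syl.1.trans d.norm

theorem SylData.omegaZ_conj {g w : G} (hg : g ∈ X) (hw : w ∈ omegaZ O) :
    g * w * g⁻¹ ∈ omegaZ O := by
  refine ⟨d.conj_mem_O hg hw.1, by
    rw [show g * w * g⁻¹ * (g * w * g⁻¹) = g * (w * w) * g⁻¹ by group, hw.2.1]; group, fun o ho => ?_⟩
  have h1 := hw.2.2 (g⁻¹ * o * g) (by simpa using d.conj_mem_O (inv_mem hg) ho)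
  calc g * w * g⁻¹ * o = g * (w * (g⁻¹ * o * g)) * g⁻¹ := by group
    _ = g * (g⁻¹ * o * g * w) * g⁻¹ := by rw [h1]
    _ = _ := by group

theorem SylData.omegaZ_ne_bot : omegaZ O ≠ ⊥ := by
  haveI : Fact (Nat.Prime 2) := ⟨Nat.prime_two⟩
  haveI : Nontrivial O := (nontrivial_iff_ne_bot O).2 d.nebot
  haveI := d.two.center_nontrivial
  obtain ⟨m, hm0, hm⟩ := (d.two.to_subgroup (center O)).nontrivial_iff_card.1 inferInstance
  obtain ⟨z, hz⟩ := exists_prime_orderOf_dvd_card' (G := center O) 2 (hm ▸ dvd_pow_self 2 hm0.ne')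
  intro e
  have hmem : ((z : O) : G) ∈ omegaZ O := ⟨(z : O).2, by
    have := pow_orderOf_eq_one z
    rw [hz, pow_two] at this
    simpa using congrArg (fun t : center O => ((t : O) : G)) this, fun o ho =>
      (congrArg Subtype.val ((mem_center_iff.1 z.2) ⟨o, ho⟩)).symm⟩
  rw [e, mem_bot] at hmem
  rw [show z = 1 from Subtype.ext (Subtype.ext hmem), orderOf_one] at hz
  omega

include hG

/-- The commutator of `x` with an element of `S` outside `O` has order `p`. -/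
theorem SylData.exists_comm_order {y : G} (hy : y ∈ S) (hyO : y ∉ O) :
    orderOf (y * x * y⁻¹ * x⁻¹) = p := by
  obtain ⟨o, ho, j, rfl⟩ := (d.memS y).1 hy
  obtain ⟨i, hi⟩ := exists_pow_of_mem_zpowers
    (mul_mem (d.conj_pow_a j) (inv_mem (mem_zpowers x)))
  have hb : x ^ i ≠ 1 := fun e => by
    rw [hi, mul_inv_eq_one, mul_inv_eq_iff_eq_mul] at e
    obtain ⟨l, rfl⟩ := d.faith j e
    rw [pow_mul, d.ha, one_pow, mul_one] at hyO
    exact hyO ho
  set b := x ^ i * x with hb'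
  have hbe : a ^ j * x * (a ^ j)⁻¹ = b := by rw [hb', hi, inv_mul_cancel_right]
  have h1 : o * a ^ j * x * (o * a ^ j)⁻¹ * x⁻¹ = o * (b * o⁻¹ * b⁻¹) * x ^ i := by
    rw [show o * a ^ j * x * (o * a ^ j)⁻¹ * x⁻¹ = o * (a ^ j * x * (a ^ j)⁻¹) * o⁻¹ * x⁻¹ by group,
      hbe, show x ^ i = b * x⁻¹ by rw [hb', mul_inv_cancel_right]]
    group
  rw [h1]
  exact d.orderOf_coset hG (mul_mem ho (d.conj_mem_O (mul_mem (pow_mem d.xX i) d.xX) (inv_mem ho))) hb

/-- An element of `S` outside `O` has a small centralizer in any `x`-invariant part of `O`. -/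
theorem SylData.card_cent_sq {y : G} (hy : y ∈ S) (hyO : y ∉ O) {V : Subgroup G} (hV : V ≤ O)
    (hVx : ∀ v ∈ V, x * v * x⁻¹ ∈ V) :
    Nat.card (V ⊓ centralizer ({y} : Set G) : Subgroup G) *
      Nat.card (V ⊓ centralizer ({y} : Set G) : Subgroup G) ≤ Nat.card V := by
  set C := V ⊓ centralizer ({y} : Set G) with hC
  rw [← Nat.card_prod]
  refine Nat.card_le_card_of_injective (fun v : C × C =>
    (⟨(v.1 : G) * (x * (v.2 : G) * x⁻¹), mul_mem v.1.2.1 (hVx _ v.2.2.1)⟩ : V)) ?_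
  rintro ⟨u, u'⟩ ⟨v, v'⟩ e
  have e' : (u : G) * (x * u' * x⁻¹) = v * (x * v' * x⁻¹) := congrArg Subtype.val e
  set w := (v : G)⁻¹ * u with hw
  have hwC : w ∈ C := mul_mem (inv_mem v.2) u.2
  have hw' : w = x * ((v' : G) * (u' : G)⁻¹) * x⁻¹ := by
    rw [hw, show (u : G) = v * (x * v' * x⁻¹) * (x * u' * x⁻¹)⁻¹ by rw [← e']; group]
    group
  have hz : (v' : G) * (u' : G)⁻¹ ∈ C := mul_mem v'.2 (inv_mem u'.2)
  set z := (v' : G) * (u' : G)⁻¹
  have hzy : y * z = z * y := (mem_centralizer_singleton_iff.1 hz.2).symm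
  have hxzy : y * (x * z * x⁻¹) = (x * z * x⁻¹) * y := hw' ▸ (mem_centralizer_singleton_iff.1 hwC.2).symm
  have hg : orderOf (y * x * y⁻¹ * x⁻¹) = p := d.exists_comm_order hG hy hyO
  -- `x z x⁻¹` is centralized by `y` and by `x y x⁻¹`
  have hcomm : Commute (y * x * y⁻¹ * x⁻¹) (x * z * x⁻¹) := by
    have c1 : Commute y (x * z * x⁻¹) := hxzy
    have c2 : Commute (x * y⁻¹ * x⁻¹) (x * z * x⁻¹) := (Commute.conj_iff x).2 (Commute.inv_left hzy)
    rw [show y * x * y⁻¹ * x⁻¹ = y * (x * y⁻¹ * x⁻¹) by group]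
    exact c1.mul_left c2
  have h1 := d.eq_one_of_comm hG hg (d.conj_mem_O d.xX (hV hz.1)) hcomm.eq
  have hz1 : z = 1 := conj_eq_one_iff.1 h1
  have hu' : (v' : G) = u' := mul_inv_eq_one.1 hz1
  have hu : w = 1 := by rw [hw', hz1, mul_one, mul_inv_cancel]
  exact Prod.ext (Subtype.ext (inv_mul_eq_one.1 hu).symm) (Subtype.ext hu'.symm)

theorem SylData.p_dvd_omegaZ : p ∣ Nat.card (omegaZ O) - 1 ∧ 4 ≤ Nat.card (omegaZ O) := by
  haveI : Fact (Nat.Prime 2) := ⟨Nat.prime_two⟩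
  have hnorm : zpowers x ≤ normalizer (omegaZ O : Set G) := by
    refine zpowers_le.2 (mem_normalizer_iff.2 fun w => ⟨d.omegaZ_conj d.xX, fun h => ?_⟩)
    simpa [mul_assoc] using d.omegaZ_conj (inv_mem d.xX) h
  have hfpf : CfsgLib.Coprime.IsFpfOn (zpowers x) (omegaZ O) := fun g hg hg1 => by
    refine (eq_bot_iff_forall _).2 fun w hw => ?_
    obtain ⟨i, rfl⟩ := exists_pow_of_mem_zpowers hg
    have hord := d.orderOf_coset hG (one_mem O) hg1
    rw [one_mul] at hord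
    exact d.eq_one_of_comm hG hord hw.1.1 (mem_centralizer_singleton_iff.1 hw.2).symm
  have hmod := hfpf.card_mod hnorm
  rw [Nat.card_zpowers, d.hx] at hmod
  have h1 : Nat.card (omegaZ O) ≠ 1 := fun e => d.omegaZ_ne_bot (card_eq_one.1 e)
  have hpos := Nat.card_pos (α := omegaZ O)
  have hdvd : p ∣ Nat.card (omegaZ O) - 1 := (Nat.modEq_iff_dvd' hpos).1 hmod.symm
  refine ⟨hdvd, ?_⟩
  have := Nat.le_of_dvd (by omega) hdvd
  have := d.hp.two_le
  have := d.hp2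
  omega

theorem SylData.k_le_one_of_four (h4 : Nat.card (omegaZ O) = 4) : p = 3 ∧ k ≤ 1 := by
  have h1 := (d.p_dvd_omegaZ hG).1
  rw [h4] at h1
  have hp3 : p = 3 := (Nat.prime_dvd_prime_iff_eq d.hp Nat.prime_three).1 h1
  refine ⟨hp3, ?_⟩
  have := d.kdvd
  rw [hp3] at this
  by_contra hk
  have : 2 ^ 2 ∣ 2 := (pow_dvd_pow 2 (by omega)).trans this
  norm_num at this

theorem SylData.sq_index {B : Subgroup G} (hB : B ≤ S) (hel : El B) {s b : G} (hs : s ∈ B)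
    (hsO : s ∉ O) (hb : b ∈ B) (hbO : b ∉ O) : s * b ∈ O := by
  have key : ∀ y ∈ B, y ∉ O → ∃ o ∈ O, ∃ j, y = o * a ^ j ∧ 2 ^ k ∣ j + j ∧ ¬ 2 ^ k ∣ j := by
    intro y hy hyO
    obtain ⟨o, ho, j, rfl⟩ := (d.memS y).1 (hB hy)
    refine ⟨o, ho, j, rfl, d.dvd_of_pow_a_mem hG ?_, fun hj => hyO ?_⟩
    · have h1 := hel _ hy
      rw [pow_add, show a ^ j * a ^ j = (a ^ j * o * (a ^ j)⁻¹)⁻¹ * o⁻¹ * (o * a ^ j * (o * a ^ j))
        by group, h1, mul_one]
      exact mul_mem (inv_mem (d.conj_mem_O (pow_mem d.aX j) ho)) (inv_mem ho)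
    · obtain ⟨l, rfl⟩ := hj
      rw [pow_mul, d.ha, one_pow, mul_one]
      exact ho
  obtain ⟨o1, ho1, j1, rfl, hj1, hj1'⟩ := key s hs hsO
  obtain ⟨o2, ho2, j2, rfl, hj2, hj2'⟩ := key b hb hbO
  have hk1 : 1 ≤ k := by
    by_contra hk
    rw [show k = 0 by omega, pow_zero] at hj1'
    exact hj1' (one_dvd _)
  obtain ⟨k', rfl⟩ : ∃ k', k = k' + 1 := ⟨k - 1, by omega⟩
  rw [pow_succ'] at hj1 hj2 hj1' hj2'
  have e : ∀ j, 2 * 2 ^ k' ∣ j + j → ¬ 2 * 2 ^ k' ∣ j → ∃ c, j = 2 ^ k' * (2 * c + 1) := by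
    intro j h1 h2
    obtain ⟨m, rfl⟩ : 2 ^ k' ∣ j := (Nat.mul_dvd_mul_iff_left (a := 2) (by norm_num)).1 (two_mul j ▸ h1)
    rcases Nat.even_or_odd' m with ⟨c, rfl | rfl⟩
    · exact absurd ⟨c, by ring⟩ h2
    · exact ⟨c, rfl⟩
  obtain ⟨c1, rfl⟩ := e j1 hj1 hj1'
  obtain ⟨c2, rfl⟩ := e j2 hj2 hj2'
  have h2 : a ^ (2 ^ k' * (2 * c1 + 1) + 2 ^ k' * (2 * c2 + 1)) = 1 := by
    rw [show 2 ^ k' * (2 * c1 + 1) + 2 ^ k' * (2 * c2 + 1) = 2 ^ (k' + 1) * (c1 + c2 + 1) by ring,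
      pow_mul, d.ha, one_pow]
  rw [show o1 * a ^ (2 ^ k' * (2 * c1 + 1)) * (o2 * a ^ (2 ^ k' * (2 * c2 + 1))) =
    o1 * (a ^ (2 ^ k' * (2 * c1 + 1)) * o2 * (a ^ (2 ^ k' * (2 * c1 + 1)))⁻¹) *
      a ^ (2 ^ k' * (2 * c1 + 1) + 2 ^ k' * (2 * c2 + 1)) by group, h2, mul_one]
  exact mul_mem ho1 (d.conj_mem_O (pow_mem d.aX _) ho2)

/-- A largest elementary subgroup of `S` outside `O` forces `|Ω₁ Z(O)| = 4`. -/
theorem SylData.four_of_maxEl {A : Subgroup G} (hA : MaxEl S A) (hAO : ¬ A ≤ O) :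
    Nat.card (omegaZ O) = 4 := by
  classical
  obtain ⟨s, hsA, hsO⟩ := SetLike.not_le_iff_exists.1 hAO
  set W := omegaZ O
  have hWO : W ≤ O := fun w hw => hw.1
  have hss : s * s = 1 := hA.2.1 s hsA
  have hs' : s⁻¹ = s := inv_eq_of_mul_eq_one_right hss
  have hsW : ∀ w ∈ W, s * w * s⁻¹ ∈ W := fun w hw => d.omegaZ_conj (d.syl.1 (hA.1 hsA)) hw
  set C := W ⊓ centralizer ({s} : Set G)
  have hC1 : Nat.card C * Nat.card C ≤ Nat.card W :=
    d.card_cent_sq hG (hA.1 hsA) hsO hWO fun v hv => d.omegaZ_conj d.xX hv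
  -- `w ↦ [w, s]` maps `W` to `C` with kernel `C`
  have hmemC : ∀ w : W, (w : G) * (s * w * s⁻¹) ∈ C := fun w => by
    refine ⟨mul_mem w.2 (hsW _ w.2), mem_centralizer_singleton_iff.2 ?_⟩
    have hsw : (w : G) * (s * w * s⁻¹) = (s * w * s⁻¹) * w :=
      (el_omegaZ O).comm w.2 (hsW _ w.2)
    calc (w : G) * (s * w * s⁻¹) * s = w * s * w := by group
      _ = s * ((s * w * s⁻¹) * w) := by
        rw [hs', show s * (s * w * s * w) = (s * s) * (w * s * w) by group, hss, one_mul]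
      _ = s * ((w : G) * (s * w * s⁻¹)) := by rw [hsw]
  let f : W →* C :=
    MonoidHom.mk' (fun w => ⟨_, hmemC w⟩) fun u v => Subtype.ext (by
      show (u : G) * v * (s * (u * v) * s⁻¹) = u * (s * u * s⁻¹) * (v * (s * v * s⁻¹))
      have hc : (v : G) * (s * u * s⁻¹) = (s * u * s⁻¹) * v := (el_omegaZ O).comm v.2 (hsW _ u.2)
      calc (u : G) * v * (s * (u * v) * s⁻¹) = u * ((v : G) * (s * u * s⁻¹)) * (s * v * s⁻¹) := by group
        _ = u * ((s * u * s⁻¹) * v) * (s * v * s⁻¹) := by rw [hc]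
        _ = _ := by group)
  have hker : Nat.card f.ker ≤ Nat.card C := by
    refine Nat.card_le_card_of_injective (fun w => (⟨(w : W), (w : W).2, ?_⟩ : C)) ?_
    · refine mem_centralizer_singleton_iff.2 ?_
      have h1 : ((w : W) : G) * (s * (w : W) * s⁻¹) = 1 := congrArg Subtype.val w.2
      have h2 : s * ((w : W) : G) * s⁻¹ = (w : W) := (eq_inv_of_mul_eq_one_right h1).trans
        (inv_eq_of_mul_eq_one_right ((el_omegaZ O) _ (w : W).2))
      exact (mul_inv_eq_iff_eq_mul.1 h2).symm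
    · intro u v e
      exact Subtype.ext (Subtype.ext (congrArg (fun c : C => (c : G)) e))
  have hW2 : Nat.card W ≤ Nat.card C * Nat.card C := by
    rw [← f.ker.card_mul_index]
    refine Nat.mul_le_mul hker ?_
    rw [index_ker]
    exact Subgroup.card_le_card_group _
  -- compare `A` with `(A ∩ O) W`
  set A0 := A ⊓ O
  have hA0 : Nat.card A ≤ 2 * Nat.card A0 := by
    rw [two_mul, ← Nat.card_sum]
    refine Nat.card_le_card_of_surjective
      (Sum.elim (fun b => (⟨(b : G), b.2.1⟩ : A)) (fun b => (⟨s * b, mul_mem hsA b.2.1⟩ : A))) ?_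
    rintro ⟨b, hb⟩
    by_cases hbO : b ∈ O
    · exact ⟨.inl ⟨b, hb, hbO⟩, rfl⟩
    · exact ⟨.inr ⟨s * b, mul_mem hsA hb, d.sq_index hG hA.1 hA.2.1 hsA hsO hb hbO⟩,
        Subtype.ext (by show s * (s * b) = b; rw [← mul_assoc, hss, one_mul])⟩
  have hcomm : ∀ b ∈ A0, ∀ w ∈ W, b * w = w * b := fun b hb w hw => (hw.2.2 b hb.2).symm
  have hA0n : A0 ≤ normalizer (W : Set G) := fun b hb => mem_normalizer_iff.2 fun w =>
    ⟨fun hw => by rwa [hcomm b hb w hw, mul_inv_cancel_right], fun hw => by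
      rwa [← show b⁻¹ * (b * w * b⁻¹) * b⁻¹⁻¹ = w by group, hcomm b⁻¹ (inv_mem hb) _ hw,
        mul_inv_cancel_right]⟩
  have hBel : El (A0 ⊔ W) := fun y hy => by
    rw [← SetLike.mem_coe, coe_mul_of_left_le_normalizer_right A0 W hA0n] at hy
    obtain ⟨b, hb, w, hw, rfl⟩ := Set.mem_mul.1 hy
    show b * w * (b * w) = 1
    calc b * w * (b * w) = b * (w * b) * w := by group
      _ = b * b * (w * w) := by rw [← hcomm b hb w hw]; group
      _ = 1 := by rw [hA.2.1 b hb.1, hw.2.1, one_mul]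
  have hBle : A0 ⊔ W ≤ S := sup_le (inf_le_left.trans hA.1) (hWO.trans d.O_le_S)
  have hinf : Nat.card (A0 ⊓ W : Subgroup G) ≤ Nat.card C := Subgroup.card_le_of_le
    fun w hw => ⟨hw.2, mem_centralizer_singleton_iff.2 (hA.2.1.comm hw.1.1 hsA)⟩
  have hprod := CfsgLib.EABasic.card_sup_mul_card_inf_of_le_normalizer hA0n
  have hmax := hA.2.2 _ hBle hBel
  have hge := (d.p_dvd_omegaZ hG).2
  have hA0pos := Nat.card_pos (α := A0)
  have h5 : Nat.card A0 * Nat.card W ≤ Nat.card A0 * (2 * Nat.card C) := by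
    rw [← hprod]
    calc Nat.card (A0 ⊔ W : Subgroup G) * Nat.card (A0 ⊓ W : Subgroup G)
        ≤ (2 * Nat.card A0) * Nat.card C := Nat.mul_le_mul (hmax.trans hA0) hinf
      _ = _ := by ring
  have h6 := Nat.le_of_mul_le_mul_left h5 hA0pos
  have h7 : Nat.card C ≤ 2 := by
    by_contra hlt
    have : 3 * Nat.card C ≤ Nat.card C * Nat.card C := Nat.mul_le_mul_right _ (by omega)
    omega
  nlinarith

end

end CfsgLib.PrimeOrders
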