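import Cfsg.Agent.Lib.PrimeOrders.Klein
import Cfsg.Agent.Lib.PrimeOrders.DoublyTransitive
import Cfsg.Agent.Lib.BSW.Recognise
import Cfsg.Agent.S2475

/-!
# `PSL₂(7)` is the only such nonsolvable group
-/

set_option autoImplicit false
set_option linter.style.haveILetI false

namespace CfsgLib.PrimeOrders

open Subgroup

universe u

/-- Two powers next to a power of three. -/
theorem three_pow_next {f j : ℕ} (h : 3 ^ f = 2 ^ j + 1 ∨ 3 ^ f + 1 = 2 ^ j) :
    3 ^ f = 2 ∨ 3 ^ f = 3 ∨ 3 ^ f = 9 ∨ 3 ^ f = 1 := by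
  have h8 : ∀ g, 3 ^ (2 * g) % 8 = 1 ∧ 3 ^ (2 * g + 1) % 8 = 3 := fun g => by
    rw [pow_succ, pow_mul, Nat.mul_mod, Nat.pow_mod]; norm_num
  have h13 : 3 ^ f % 8 = 1 ∨ 3 ^ f % 8 = 3 := by
    obtain ⟨g, rfl | rfl⟩ := Nat.even_or_odd' f
    exacts [Or.inl (h8 g).1, Or.inr (h8 g).2]
  rcases lt_or_ge j 3 with hj | hj
  · rcases (by interval_cases j <;> norm_num : 2 ^ j = 1 ∨ 2 ^ j = 2 ∨ 2 ^ j = 4) with e | e | e <;>
      rcases h with h | h <;> rw [e] at h <;> omega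
  have h2 : 2 ^ j % 8 = 0 := by
    rw [show j = j - 3 + 3 by omega, pow_add]; omega
  obtain ⟨g, rfl | rfl⟩ := Nat.even_or_odd' f
  swap
  · have := (h8 g).2; omega
  rcases h with h | h
  swap
  · have := (h8 g).1; omega
  right; right; left
  obtain ⟨c, hc⟩ : ∃ c, 3 ^ g = c + 1 :=
    ⟨3 ^ g - 1, by have := Nat.one_le_pow g 3 (by norm_num); omega⟩
  have h3 : c * (c + 2) = 2 ^ j := by
    rw [pow_mul', hc] at h
    ring_nf at h ⊢
    omega
  obtain ⟨a, -, ha⟩ := (Nat.dvd_prime_pow Nat.prime_two).1 (h3 ▸ dvd_mul_right c (c + 2))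
  obtain ⟨b, -, hb⟩ := (Nat.dvd_prime_pow Nat.prime_two).1 (h3 ▸ dvd_mul_left (c + 2) c)
  have hc2 : c = 2 := by
    rcases lt_or_ge a 2 with h4 | h4
    · interval_cases a
      · exfalso
        rw [ha] at hb
        have h5 : 2 ∣ 2 ^ b ∨ b = 0 := by
          rcases b with _ | b
          · right; rfl
          · left; exact dvd_pow_self 2 (Nat.succ_ne_zero b)
        rcases h5 with h5 | rfl <;> omega
      · exact ha
    · exfalso
      have h5 : 4 ∣ c := ha ▸ pow_dvd_pow 2 h4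
      have h6 : 4 ∣ c + 2 := by
        rcases lt_or_ge b 2 with h7 | h7
        · have := Nat.two_pow_pos a
          rcases (by interval_cases b <;> norm_num : 2 ^ b = 1 ∨ 2 ^ b = 2) with e | e <;> omega
        · exact hb ▸ pow_dvd_pow 2 h7
      omega
  rw [pow_mul', hc, hc2]; norm_num

variable {G : Type u} [Group G] [Finite G]

theorem iso_P7_of_psl [IsSimpleGroup G] (hna : ¬ IsMulCommutative G) (hG : Hyp G) {F : Type} [Field F]
    [Fintype F] (e : G ≃* Matrix.ProjectiveSpecialLinearGroup (Fin 2) F) : Nonempty (G ≃* P7) := by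
  obtain ⟨p, hchar⟩ := CharP.exists F
  obtain ⟨f, hp, hq⟩ := FiniteField.card F p
  haveI : Fact p.Prime := ⟨hp⟩
  have hH := hG.of_surjective e.toMonoidHom e.surjective
  have hcard := CfsgLib.Classical.card_psl2 (F := F)
  rw [← Nat.card_congr e.toEquiv] at hcard
  set q := Fintype.card F with hqdef
  have hp2 := hp.two_le
  have h4 : 4 ≤ q := by
    by_contra hlt
    have hq2 : 2 ≤ q := Fintype.one_lt_card
    interval_cases q
    · norm_num at hcard
      haveI : Fact (Nat.Prime 3) := ⟨Nat.prime_three⟩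
      obtain ⟨g, hg⟩ := exists_prime_orderOf_dvd_card' (G := G) 3 (by omega)
      have h2 : (zpowers g).index = 2 := by
        have := (zpowers g).card_mul_index
        rw [Nat.card_zpowers, hg] at this
        omega
      haveI := Subgroup.normal_of_index_eq_two h2
      rcases IsSimpleGroup.eq_bot_or_eq_top_of_normal (zpowers g) inferInstance with e1 | e1
      · rw [e1, index_bot] at h2; omega
      · rw [e1, index_top] at h2; omega
    · norm_num at hcard
      exact CfsgLib.BSW.card_ne_twelve (G := G) (by omega)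
  have hrange := Cfsg.Agent.S2475.result (F := F) p h4
  have hex : ∀ m, (m ∣ p ∨ m ∣ (q - 1) / Nat.gcd 2 (q - 1) ∨ m ∣ (q + 1) / Nat.gcd 2 (q - 1)) →
      m = 1 ∨ (∃ k, m = 2 ^ k) ∨ (m.Prime ∧ m ≠ 5) := by
    intro m hm
    obtain ⟨g, rfl⟩ : m ∈ Set.range (orderOf : Matrix.ProjectiveSpecialLinearGroup (Fin 2) F → ℕ) := by
      rw [hrange]; exact hm
    rcases eq_or_ne g 1 with rfl | hg
    · exact Or.inl orderOf_one
    · exact Or.inr (hH g hg)
  have hpk : q = p ^ (f : ℕ) := hq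
  have hf : (f : ℕ) ≠ 0 := f.pos.ne'
  have three : ∀ m, 3 ∣ m → (m = 1 ∨ (∃ k, m = 2 ^ k) ∨ (m.Prime ∧ m ≠ 5)) → m = 3 := by
    intro m hd hm
    rcases hm with rfl | ⟨k, rfl⟩ | ⟨hm, -⟩
    · omega
    · have := Nat.prime_three.dvd_of_dvd_pow hd
      omega
    · exact ((Nat.prime_dvd_prime_iff_eq Nat.prime_three hm).1 hd).symm
  suffices hq7 : q = 7 by
    obtain ⟨e7⟩ := P7_congr (F := F) hq7
    exact ⟨e.trans e7.symm⟩
  rcases eq_or_ne p 2 with rfl | hodd
  · exfalso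
    have hev : q % 2 = 0 := by rw [hpk]; exact Nat.mod_eq_zero_of_dvd (dvd_pow_self 2 hf)
    have hgcd : Nat.gcd 2 (q - 1) = 1 := (Nat.prime_two.coprime_iff_not_dvd.2 (by omega)).gcd_eq_one
    have hA := hex ((q - 1) / Nat.gcd 2 (q - 1)) (Or.inr (Or.inl dvd_rfl))
    have hB := hex ((q + 1) / Nat.gcd 2 (q - 1)) (Or.inr (Or.inr dvd_rfl))
    rw [hgcd, Nat.div_one] at hA hB
    have h3 : q % 3 ≠ 0 := fun h0 => by
      have := Nat.prime_three.dvd_of_dvd_pow (hpk ▸ Nat.dvd_of_mod_eq_zero h0)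
      omega
    have h13 : 3 ∣ q - 1 ∨ 3 ∣ q + 1 := by
      rcases (by omega : q % 3 = 1 ∨ q % 3 = 2) with h | h
      · exact Or.inl (Nat.dvd_of_mod_eq_zero (by omega))
      · exact Or.inr (Nat.dvd_of_mod_eq_zero (by omega))
    rcases h13 with h | h
    · have := three _ h hA
      rw [show q + 1 = 5 by omega] at hB
      rcases hB with h5 | ⟨k, hk⟩ | ⟨-, h5⟩
      · omega
      · have := (Nat.prime_dvd_prime_iff_eq (by norm_num : Nat.Prime 5) Nat.prime_two).1
          ((by norm_num : Nat.Prime 5).dvd_of_dvd_pow (dvd_of_eq hk))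
        omega
      · exact h5 rfl
    · have := three _ h hB
      omega
  have hp5 : p ≠ 5 := by
    rintro rfl
    rcases hex 5 (Or.inl dvd_rfl) with h5 | ⟨k, hk⟩ | ⟨-, h5⟩
    · omega
    · have := (Nat.prime_dvd_prime_iff_eq hp Nat.prime_two).1 (hp.dvd_of_dvd_pow (dvd_of_eq hk))
      omega
    · exact h5 rfl
  have hq2 : q % 2 = 1 := by
    rw [hpk, ← Nat.odd_iff]; exact (hp.odd_of_ne_two hodd).pow
  have hgcd : Nat.gcd 2 (q - 1) = 2 := Nat.gcd_eq_left (by omega)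
  have hA := hex ((q - 1) / Nat.gcd 2 (q - 1)) (Or.inr (Or.inl dvd_rfl))
  have hB := hex ((q + 1) / Nat.gcd 2 (q - 1)) (Or.inr (Or.inr dvd_rfl))
  rw [hgcd] at hA hB
  by_cases hp3 : p = 3
  · exfalso
    subst hp3
    have pow2 : ∀ m, 2 ∣ m → (m = 1 ∨ (∃ k, m = 2 ^ k) ∨ (m.Prime ∧ m ≠ 5)) → ∃ k, m = 2 ^ k := by
      intro m hd hm
      rcases hm with rfl | hk | ⟨hm, -⟩
      · omega
      · exact hk
      · exact ⟨1, ((Nat.prime_dvd_prime_iff_eq Nat.prime_two hm).1 hd).symm⟩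
    have hnext : 3 ^ (f : ℕ) = 2 ∨ 3 ^ (f : ℕ) = 3 ∨ 3 ^ (f : ℕ) = 9 ∨ 3 ^ (f : ℕ) = 1 := by
      rcases (by omega : 2 ∣ (q - 1) / 2 ∨ 2 ∣ (q + 1) / 2) with h | h
      · obtain ⟨k, hk⟩ := pow2 _ h hA
        exact three_pow_next (j := k + 1) (Or.inl (by rw [← hpk, pow_succ]; omega))
      · obtain ⟨k, hk⟩ := pow2 _ h hB
        exact three_pow_next (j := k + 1) (Or.inr (by rw [← hpk, pow_succ]; omega))
    rw [← hpk] at hnext
    have hq9 : q = 9 := by omega
    rw [hq9] at hB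
    rcases hB with h5 | ⟨k, hk⟩ | ⟨-, h5⟩
    · norm_num at h5
    · norm_num at hk
      have := (Nat.prime_dvd_prime_iff_eq (by norm_num : Nat.Prime 5) Nat.prime_two).1
        ((by norm_num : Nat.Prime 5).dvd_of_dvd_pow (dvd_of_eq hk))
      omega
    · exact h5 rfl
  have h3 : q % 3 ≠ 0 := fun h0 => hp3 ((Nat.prime_dvd_prime_iff_eq Nat.prime_three hp).1
    (Nat.prime_three.dvd_of_dvd_pow (hpk ▸ Nat.dvd_of_mod_eq_zero h0))).symm
  have h13 : 3 ∣ (q - 1) / 2 ∨ 3 ∣ (q + 1) / 2 := by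
    obtain ⟨t, ht⟩ : ∃ t, q = 2 * t + 1 := ⟨q / 2, by clear hA hB hex three; omega⟩
    rw [show (q - 1) / 2 = t by omega, show (q + 1) / 2 = t + 1 by omega]
    rcases (by omega : t % 3 = 0 ∨ t % 3 = 1 ∨ t % 3 = 2) with e | e | e
    · exact Or.inl (Nat.dvd_of_mod_eq_zero e)
    · exfalso; clear hA hB hex three; omega
    · exact Or.inr (Nat.dvd_of_mod_eq_zero (by omega))
  rcases h13 with h | h
  · have := three _ h hA
    clear hA hB hex three
    omega
  · have h1 := three _ h hB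
    have h2 : q = 5 := by omega
    rw [h2] at hpk
    exact absurd ((Nat.prime_dvd_prime_iff_eq hp (by norm_num)).1 (hpk ▸ dvd_pow_self p hf)) hp5

/-- The simple case. -/
theorem iso_P7_simple [IsSimpleGroup G] (hG : Hyp G) (hns : ¬ Group.IsSolvable G)
    (hsol : SolvableLocals G) : Nonempty (G ≃* P7) := by
  haveI : Fact (Nat.Prime 2) := ⟨Nat.prime_two⟩
  have hna : ¬ IsMulCommutative G := fun hc => hns (IsSimpleGroup.comm_iff_isSolvable.1 hc.is_comm.comm)
  suffices h : ∃ (F : Type) (_ : Field F) (_ : Fintype F),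
      Nonempty (G ≃* Matrix.ProjectiveSpecialLinearGroup (Fin 2) F) by
    obtain ⟨F, _, _, ⟨e⟩⟩ := h
    exact iso_P7_of_psl hna hG e
  by_cases hNK : NoKlein G
  swap
  · simp only [NoKlein, not_forall, not_not] at hNK
    obtain ⟨X, S, O, x, a, p, k, hX, d, hk, h4, hO⟩ := hNK
    exact exists_psl_of_klein hna hG hX d hk h4 hO
  obtain ⟨T⟩ : Nonempty (Sylow 2 G) := inferInstance
  have hT : (T : Subgroup G) ≠ ⊥ := by
    refine T.ne_bot_of_dvd_card (even_iff_two_dvd.1 ?_)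
    rw [← Nat.not_odd_iff_even]
    exact fun h => hns (hG.isSolvable_of_odd h)
  obtain ⟨M, hM⟩ := exists_top hG hsol hNK T hT
  obtain ⟨x, a, p, d⟩ := top_structure hG hsol hNK hna T hT hM
  exact TIData.exists_psl (M := M) (T := (T : Subgroup G)) (x := x) (a := a) (p := p)
    ⟨hG, d, stronglyEmbedded hG hsol hNK hna T hT hM⟩

end CfsgLib.PrimeOrders
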