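import Cfsg.Agent.Lib.PrimeOrders.Overgroup
import Cfsg.Agent.Lib.Invol.QDTransfer
import Cfsg.Agent.S3224
import Cfsg.Agent.S0508

/-!
# The self-centralizing four-group

If some local subgroup is `S₄`, the Sylow two-subgroups are dihedral, and the theorem of
Brauer–Suzuki–Wall gives `PSL₂`.
-/

set_option autoImplicit false
set_option linter.style.haveILetI false

namespace CfsgLib.PrimeOrders

open Subgroup CfsgLib.Invol

universe u

variable {G : Type u} [Group G] [Finite G]
variable {X S O : Subgroup G} {x a : G} {p k : ℕ}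

theorem centralizer_eq_of_four (hG : Hyp G) (hX : Loc X) (d : SylData X S O x a p k) (hk : 1 ≤ k)
    (h4 : Nat.card (omegaZ O) = 4) (hO : Nat.card O = 4) :
    centralizer (O : Set G) = O ∧ Nat.card S = 8 ∧ O = omegaZ O := by
  obtain ⟨-, hk1⟩ := d.k_le_one_of_four hG h4
  have hOW : O = omegaZ O := (eq_of_le_of_card_ge (fun w (hw : w ∈ omegaZ O) => hw.1) (by omega)).symm
  refine ⟨?_, by rw [d.card_S hG, show k = 1 by omega, hO]; norm_num, hOW⟩
  obtain ⟨D, hD1, hD2, rfl⟩ := hX
  have hDO : D ≤ O := d.maxi D le_normalizer le_rfl hD2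
  obtain ⟨⟨w, hw⟩, hw1⟩ := Subgroup.ne_bot_iff_exists_ne_one.1 hD1
  replace hw1 : w ≠ 1 := fun e => hw1 (Subtype.ext e)
  have hwx : x * w * x⁻¹ ≠ w := fun e =>
    hw1 (d.eq_one_of_comm hG d.hx (hDO hw) (mul_inv_eq_iff_eq_mul.1 e))
  have hDeq : D = O := by
    refine eq_of_le_of_card_ge hDO ?_
    have h3 : 3 ≤ Nat.card D := by
      classical
      haveI := Fintype.ofFinite D
      have hxw1 : x * w * x⁻¹ ≠ 1 := by simpa [conj_eq_one_iff] using hw1
      let e : Fin 3 → D := ![1, ⟨w, hw⟩, ⟨x * w * x⁻¹, (mem_normalizer_iff.1 d.xX w).1 hw⟩]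
      have hinj : Function.Injective e := by
        intro i j h
        fin_cases i <;> fin_cases j <;>
          simp [e, Subtype.ext_iff, hw1, Ne.symm hw1, hwx, Ne.symm hwx, hxw1, Ne.symm hxw1] at h ⊢
      simpa using Nat.card_le_card_of_injective e hinj
    have h1 : Nat.card D ∣ 4 := hO ▸ card_dvd_of_le hDO
    have h2 := Nat.le_of_dvd (by norm_num) h1
    interval_cases h : Nat.card D <;> omega
  subst hDeq
  refine le_antisymm ?_ (fun o ho => mem_centralizer_iff.2 fun o' ho' => ?_)
  · refine d.maxi _ ?_ ?_ ?_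
    · intro g hg
      refine mem_normalizer_iff.2 fun o => ⟨fun ho => ?_, fun ho => ?_⟩
      · rwa [← mem_centralizer_iff.1 hg o ho, mul_inv_cancel_right]
      · have := mem_centralizer_iff.1 hg _ ho
        rw [show g * o * g⁻¹ * g = g * o by group] at this
        rw [mul_left_cancel this]
        exact ho
    · intro g hg
      refine mem_normalizer_of_map_le ?_
      rintro _ ⟨c, hc, rfl⟩
      refine mem_centralizer_iff.2 fun o ho => ?_
      have h1 := mem_centralizer_iff.1 hc (g⁻¹ * o * g)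
        (by simpa using (mem_normalizer_iff.1 (inv_mem hg) o).1 ho)
      show o * (g * c * g⁻¹) = g * c * g⁻¹ * o
      calc o * (g * c * g⁻¹) = g * (g⁻¹ * o * g * c) * g⁻¹ := by group
        _ = g * (c * (g⁻¹ * o * g)) * g⁻¹ := by rw [h1]
        _ = _ := by group
    · have hw2 : orderOf w = 2 := orderOf_eq_prime (by
        rw [pow_two]; exact (hOW ▸ hw : w ∈ omegaZ D).2.1) hw1
      exact (hG.isPGroup_centralizer Nat.prime_two (hw2 ▸ dvd_rfl)).to_le fun g hg =>
        mem_centralizer_singleton_iff.2 (mem_centralizer_iff.1 hg w hw).symm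
  · exact ((hOW ▸ ho : o ∈ omegaZ D).2.2 o' ho').symm

/-- A local subgroup `S₄` forces `PSL₂`. -/
theorem exists_psl_of_klein [IsSimpleGroup G] (hna : ¬ IsMulCommutative G) (hG : Hyp G) (hX : Loc X)
    (d : SylData X S O x a p k) (hk : 1 ≤ k) (h4 : Nat.card (omegaZ O) = 4) (hO : Nat.card O = 4) :
    ∃ (F : Type) (_ : Field F) (_ : Fintype F),
      Nonempty (G ≃* Matrix.ProjectiveSpecialLinearGroup (Fin 2) F) := by
  haveI : Fact (Nat.Prime 2) := ⟨Nat.prime_two⟩
  obtain ⟨hC, hS8, hOW⟩ := centralizer_eq_of_four hG hX d hk h4 hO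
  obtain ⟨T, hT⟩ := d.syl.2.1.exists_le_sylow
  have h8 : 8 ≤ Nat.card (T : Subgroup G) := hS8 ▸ Subgroup.card_le_of_le hT
  have hOT : O ≤ (T : Subgroup G) := d.O_le_S.trans hT
  haveI : Nontrivial (T : Subgroup G) := Finite.one_lt_card_iff_nontrivial.1 (by omega)
  have hcn := T.2.center_nontrivial
  obtain ⟨m, hm0, hm⟩ := (T.2.to_subgroup (center (T : Subgroup G))).nontrivial_iff_card.1 hcn
  obtain ⟨z0, hz0⟩ := exists_prime_orderOf_dvd_card' (G := center (T : Subgroup G)) 2
    (hm ▸ dvd_pow_self 2 hm0.ne')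
  set z : G := ((z0 : (T : Subgroup G)) : G) with hz
  have hzo : orderOf z = 2 := by rw [hz, Subgroup.orderOf_coe, Subgroup.orderOf_coe, hz0]
  have hzT : z ∈ (T : Subgroup G) := SetLike.coe_mem _
  have hzc : ∀ s ∈ (T : Subgroup G), s * z = z * s := fun s hs =>
    congrArg Subtype.val (mem_center_iff.1 z0.2 ⟨s, hs⟩)
  have hzO : z ∈ O := hC ▸ mem_centralizer_iff.2 fun o ho => hzc o (hOT ho)
  -- a noncentral involution of `O`
  obtain ⟨v, hvO, hv1, hvz⟩ : ∃ v ∈ O, v ≠ 1 ∧ v ≠ z := by
    by_contra hcon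
    push Not at hcon
    have : Nat.card O ≤ 2 := by
      classical
      refine le_trans (Nat.card_le_card_of_injective (fun o : O => decide ((o : G) = 1)) ?_) (by simp)
      intro o o' h
      simp only [decide_eq_decide] at h
      by_cases ho : (o : G) = 1
      · exact Subtype.ext (ho.trans (h.1 ho).symm)
      · exact Subtype.ext ((hcon _ o.2 ho).trans (hcon _ o'.2 fun e => ho (h.2 e)).symm)
    omega
  have hv2 : orderOf v = 2 := orderOf_eq_prime (by
    rw [pow_two]; exact (hOW ▸ hvO : v ∈ omegaZ O).2.1) hv1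
  have hCT : Nat.card (centralizer ({(⟨v, hOT hvO⟩ : (T : Subgroup G))} : Set (T : Subgroup G))) = 4 := by
    rw [← hO, ← Nat.card_congr (subgroupOfEquivOfLe hOT).toEquiv]
    refine congrArg (fun H : Subgroup (T : Subgroup G) => Nat.card H) (le_antisymm ?_ ?_)
    · intro s hs
      have hsv : (s : G) * v = v * s := congrArg Subtype.val (mem_centralizer_singleton_iff.1 hs)
      rw [mem_subgroupOf]
      have hmem : (s : G) ∈ centralizer (O : Set G) := by
        set C := O ⊓ centralizer ({(s : G)} : Set G)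
        have h3 : 3 ≤ Nat.card C := by
          classical
          have hinv : ∀ g ∈ O, g * s = s * g → g ∈ C := fun g hg e =>
            ⟨hg, mem_centralizer_singleton_iff.2 e⟩
          let e : Fin 3 → C := ![1, ⟨v, hinv v hvO hsv.symm⟩, ⟨z, hinv z hzO (hzc _ s.2).symm⟩]
          have hz1 : z ≠ 1 := CfsgLib.Invol.invol_ne_one hzo
          have hinj : Function.Injective e := by
            intro i j h
            fin_cases i <;> fin_cases j <;>
              simp [e, Subtype.ext_iff, hv1, Ne.symm hv1, hz1, Ne.symm hz1, hvz, Ne.symm hvz] at h ⊢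
          simpa using Nat.card_le_card_of_injective e hinj
        have h1 : Nat.card C ∣ 4 := hO ▸ card_dvd_of_le inf_le_left
        have h2 := Nat.le_of_dvd (by norm_num) h1
        have heq : C = O := eq_of_le_of_card_ge inf_le_left (by
          interval_cases h : Nat.card C <;> omega)
        refine mem_centralizer_iff.2 fun o ho => ?_
        exact mem_centralizer_singleton_iff.1 (heq.ge ho).2
      rwa [hC] at hmem
    · intro s hs
      refine mem_centralizer_singleton_iff.2 (Subtype.ext ?_)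
      exact ((hOW ▸ (mem_subgroupOf.1 hs) : (s : G) ∈ omegaZ O).2.2 v hvO)
  have hT2 := T.2
  rcases Cfsg.Agent.S3224.result T.2 (⟨v, hOT hvO⟩ : (T : Subgroup G))
    (by rw [Subgroup.orderOf_mk]; exact hv2) hCT with ⟨n, hn⟩ | hQD | h4'
  · have hn2 : 2 ≤ n := by
      obtain ⟨e⟩ := hn
      have := Nat.card_congr e.toEquiv
      rw [DihedralGroup.nat_card] at this
      omega
    have hC2 : IsPGroup 2 (centralizer ({z} : Set G)) :=
      hG.isPGroup_centralizer Nat.prime_two (hzo ▸ dvd_rfl)
    have hcore : Cfsg.oddCore (centralizer ({z} : Set G)) = ⊥ := by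
      refine sSup_eq_bot.2 ?_
      rintro N ⟨-, hN⟩
      obtain ⟨j, hj⟩ := IsPGroup.iff_card.1 (hC2.to_subgroup N)
      rw [hj] at hN
      rcases j with _ | j
      · exact card_eq_one.1 (by rw [hj, pow_zero])
      · exact absurd ((Nat.coprime_pow_left_iff (Nat.succ_pos j) 2 2).1 hN) (by norm_num)
    obtain ⟨F, hF1, hF2, -, he⟩ := Cfsg.Agent.S0508.result T n hn2 hn z hzo hzT hzc ⊥
      (by rw [hcore, Subgroup.map_bot]) (fun h => absurd rfl h)
      (fun s _ hs => absurd (mem_centralizer_iff.2 fun o ho => by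
        rw [mem_bot.1 ho, one_mul, mul_one]) hs)
      (fun Y hY hY1 => absurd (le_bot_iff.1 hY) hY1)
    exact ⟨F, hF1, hF2, he⟩
  · exfalso
    obtain ⟨k', a', b', -, -, Q⟩ := exists_qdFrame hQD
    set h : ℤ := 2 ^ (k' - 2)
    by_cases hf : FusedFour a' b' h
    · obtain ⟨i, hi, hc⟩ := hf
      obtain ⟨g, hg⟩ := isConj_iff.1 hc
      have hg2 : g * rotG a' (2 * h) * g⁻¹ = rotG a' (2 * h) := by
        conv_lhs => rw [← Q.sq_refG_odd hi]
        rw [← QDFrame.sq_quarter (a := a'), ← hg]
        group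
      set c := rotG a' (2 * h)
      have hC2 : IsPGroup 2 (centralizer ({c} : Set G)) :=
        hG.isPGroup_centralizer Nat.prime_two (Q.orderOf_centerG ▸ dvd_rfl)
      have hgT : g ∈ (T : Subgroup G) := by
        rw [← T.is_maximal' hC2 fun s hs => mem_centralizer_singleton_iff.2 (Q.commute_center hs)]
        exact mem_centralizer_singleton_iff.2 (mul_inv_eq_iff_eq_mul.1 hg2)
      have hback : refG a' b' i = g⁻¹ * rotG a' h * g⁻¹⁻¹ := by rw [← hg]; group
      rcases Q.conj_quarterG (inv_mem hgT) with e | e <;>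
        exact (Q.rotG_ne_refG _ i) ((hback.trans e).symm)
    · obtain ⟨H, hH, -⟩ := Q.exists_index_two_four hf
      haveI := Subgroup.normal_of_index_eq_two hH
      rcases IsSimpleGroup.eq_bot_or_eq_top_of_normal H inferInstance with rfl | rfl
      · rw [index_bot] at hH
        have := Subgroup.card_le_card_group (T : Subgroup G)
        omega
      · rw [index_top] at hH; omega
  · omega

end CfsgLib.PrimeOrders
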