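import Cfsg.Agent.Lib.PrimeOrders.Solvable
import Cfsg.Agent.Lib.Coprime.Core
import Cfsg.Agent.Lib.PGroup.ElementaryBasic

/-!
# The structure of solvable subgroups with a normal two-subgroup

Such a subgroup is a two-group `O` extended by a group `⟨x, a⟩` with `x` of odd prime order `p`
acting without fixed points and `a` a two-element inducing a faithful automorphism of `⟨x⟩`.
-/

set_option autoImplicit false
set_option linter.style.haveILetI false

namespace CfsgLib.PrimeOrders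

open Subgroup

universe u

variable {G : Type u} [Group G] [Finite G]

/-- A solvable subgroup `X = O ⟨x, a⟩`. -/
structure LocalData (X O : Subgroup G) (x a : G) (p k : ℕ) : Prop where
  le : O ≤ X
  norm : X ≤ normalizer (O : Set G)
  two : IsPGroup 2 O
  nebot : O ≠ ⊥
  maxi : ∀ D ≤ X, X ≤ normalizer (D : Set G) → IsPGroup 2 D → D ≤ O
  hp : p.Prime
  hp2 : p ≠ 2
  xX : x ∈ X
  aX : a ∈ X
  hx : orderOf x = p
  ha : a ^ 2 ^ k = 1
  conj : a * x * a⁻¹ ∈ zpowers x
  faith : ∀ j, a ^ j * x = x * a ^ j → 2 ^ k ∣ j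
  mem : ∀ g ∈ X, ∃ o ∈ O, ∃ i j : ℕ, g = o * x ^ i * a ^ j
  kdvd : 2 ^ k ∣ p - 1

theorem exists_localData (hG : Hyp G) {X : Subgroup G} (hX : Group.IsSolvable X) {D : Subgroup G}
    (hD1 : D ≠ ⊥) (hDX : D ≤ X) (hDn : X ≤ normalizer (D : Set G)) (hD2 : IsPGroup 2 D)
    (hnot : ¬ IsPGroup 2 X) : ∃ O x a p k, LocalData X O x a p k := by
  haveI : Fact (Nat.Prime 2) := ⟨Nat.prime_two⟩
  haveI := hX
  have h : Hyp X := hG.subgroup X
  set O' := Cfsg.pCore 2 X with hO'
  haveI : O'.Normal := CfsgLib.Coprime.pCore_normal' 2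
  have hO2 : IsPGroup 2 O' := CfsgLib.Coprime.pCore_isPGroup 2
  have hmax : ∀ E : Subgroup G, E ≤ X → X ≤ normalizer (E : Set G) → IsPGroup 2 E →
      E.subgroupOf X ≤ O' := fun E hE hEn hE2 => by
    haveI : (E.subgroupOf X).Normal := (normal_subgroupOf_iff_le_normalizer hE).2 hEn
    exact CfsgLib.Coprime.le_pCore (hE2.of_equiv (subgroupOfEquivOfLe hE).symm)
  have hO1 : O' ≠ ⊥ := fun e => hD1 (by
    have h1 := hmax D hDX hDn hD2
    rw [e, le_bot_iff, subgroupOf_eq_bot, disjoint_iff, inf_of_le_left hDX] at h1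
    exact h1)
  have hO'top : O' ≠ ⊤ := fun e => hnot (by
    have h1 := hO2
    rw [e] at h1
    exact h1.of_equiv Subgroup.topEquiv)
  -- a minimal normal subgroup of the quotient
  set π := QuotientGroup.mk' O' with hπ
  have htop : (⊤ : Subgroup (X ⧸ O')) ≠ ⊥ := fun e => hO'top (eq_top_iff.2 fun g _ =>
    (QuotientGroup.eq_one_iff g).1 (mem_bot.1 (e ▸ mem_top (π g))))
  obtain ⟨M, hMn, hM1, -, hMmin⟩ := CfsgLib.Coprime.exists_minimal_normal_le htop
  haveI := hMn
  obtain ⟨hMc, p, hp, hMp⟩ := CfsgLib.Coprime.minimal_normal_solvable hM1 hMmin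
  haveI : Fact p.Prime := ⟨hp⟩
  have hMpg : IsPGroup p M := fun v => ⟨1, Subtype.ext (by rw [pow_one]; exact hMp v v.2)⟩
  set L := M.comap π with hL
  haveI : L.Normal := hMn.comap π
  have hp2 : p ≠ 2 := by
    rintro rfl
    refine hM1 (eq_bot_iff.2 fun m hm => ?_)
    obtain ⟨g, rfl⟩ := QuotientGroup.mk'_surjective O' m
    have hL2 : IsPGroup 2 L := hMpg.comap_of_ker_isPGroup π (by rw [QuotientGroup.ker_mk']; exact hO2)
    exact mem_bot.2 ((QuotientGroup.eq_one_iff g).2 (CfsgLib.Coprime.le_pCore hL2 hm))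
  obtain ⟨P⟩ : Nonempty (Sylow p L) := inferInstance
  set P' := (P : Subgroup L).map L.subtype with hP'
  have hP'L : P' ≤ L := map_subtype_le _
  have hP'p : IsPGroup p P' := P.2.map _
  -- the centre of `O'`
  set Z := (center O').map O'.subtype with hZ
  have hZle : Z ≤ O' := map_subtype_le _
  have hZ2 : IsPGroup 2 Z := (hO2.to_subgroup (center O')).map _
  have hZc : ∀ a ∈ Z, ∀ b ∈ Z, a * b = b * a := by
    rintro _ ⟨a, ha, rfl⟩ _ ⟨b, hb, rfl⟩
    exact congrArg Subtype.val ((mem_center_iff.1 hb) a)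
  have hZ1 : Z ≠ ⊥ := by
    haveI := hO2.isNilpotent
    haveI : Nontrivial O' := (nontrivial_iff_ne_bot O').2 hO1
    rw [hZ, Ne, map_eq_bot_iff_of_injective _ O'.subtype_injective, ← Ne, ← nontrivial_iff_ne_bot]
    exact hO2.center_nontrivial
  haveI : Z.Normal := by
    rw [hZ]; infer_instance
  have hnorm : ∀ g : X, g ∈ normalizer (Z : Set X) := fun g => by
    rw [normalizer_eq_top]; exact mem_top g
  have hfix : ∀ y : X, y ^ p = 1 → y ∈ O' → y = 1 := fun y hy hyO => by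
    obtain ⟨i, hi⟩ := hO2 ⟨y, hyO⟩
    exact (h.comm_eq_one' (x := y) (y := y) rfl hp Nat.prime_two hp2 (i := 1) (j := i)
      (by rwa [pow_one]) (by simpa using congrArg Subtype.val hi)).elim id id
  -- the Sylow subgroup of `L` has order `p`
  have hPexp : ∀ y ∈ P', y ^ p = 1 := fun y hy => by
    rcases eq_or_ne y 1 with rfl | hy1
    · exact one_pow p
    obtain ⟨i, hi⟩ := IsPGroup.iff_orderOf.1 hP'p ⟨y, hy⟩
    rw [Subgroup.orderOf_mk] at hi
    have hpy : p ∣ orderOf y := by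
      rcases i with _ | i
      · exact absurd (orderOf_eq_one_iff.1 (by rwa [pow_zero] at hi)) hy1
      · rw [hi]; exact dvd_pow_self p (Nat.succ_ne_zero i)
    rw [← h.orderOf_odd hp hp2 hpy, pow_orderOf_eq_one]
  have hP'1 : P' ≠ ⊥ := by
    intro e
    rw [hP', map_eq_bot_iff_of_injective _ L.subtype_injective] at e
    have hpL : p ∣ Nat.card L := by
      obtain ⟨m, hm, hm1⟩ : ∃ m ∈ M, m ≠ 1 := by
        obtain ⟨⟨m, hm⟩, hm1⟩ := Subgroup.ne_bot_iff_exists_ne_one.1 hM1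
        exact ⟨m, hm, fun e1 => hm1 (Subtype.ext e1)⟩
      obtain ⟨g, rfl⟩ := QuotientGroup.mk'_surjective O' m
      have h1 : orderOf (π g) = p := orderOf_eq_prime (hMp _ hm) hm1
      exact h1 ▸ (orderOf_map_dvd π g).trans (Subgroup.orderOf_dvd_natCard L (show g ∈ L from hm))
    exact P.ne_bot_of_dvd_card hpL e
  obtain ⟨x, hx, hx1, hxc⟩ : ∃ x ∈ P', x ≠ 1 ∧ ∀ y ∈ P', x * y = y * x := by
    haveI : Nontrivial P' := (nontrivial_iff_ne_bot P').2 hP'1
    haveI := hP'p.center_nontrivial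
    obtain ⟨⟨⟨z, hz⟩, hzc⟩, hz1⟩ := exists_ne (1 : center P')
    exact ⟨z, hz, fun e => hz1 (Subtype.ext (Subtype.ext e)),
      fun y hy => congrArg Subtype.val ((mem_center_iff.1 hzc) ⟨y, hy⟩).symm⟩
  have hxp : orderOf x = p := orderOf_eq_prime (hPexp x hx) hx1
  have hdep : ∀ y : X, y ^ p = 1 → x * y = y * x → y ∈ zpowers x := fun y hy hxy =>
    h.mem_zpowers_of_normalize Nat.prime_two hZ2 hZc hZ1 (hnorm x) (hnorm y) hp hp2 hxp hy hxy
  have hP'x : P' = zpowers x := le_antisymm (fun y hy => hdep y (hPexp y hy) (hxc y hy))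
    (zpowers_le.2 hx)
  have hCx : ∀ y : X, x * y = y * x → y ∈ zpowers x := fun y hy => hdep y (by
    have hC := h.isPGroup_centralizer hp (g := x) (hxp ▸ dvd_rfl)
    obtain ⟨i, hi⟩ := IsPGroup.iff_orderOf.1 hC ⟨y, mem_centralizer_singleton_iff.2 hy.symm⟩
    rw [Subgroup.orderOf_mk] at hi
    rcases i with _ | i
    · rw [show y = 1 from orderOf_eq_one_iff.1 (by rwa [pow_zero] at hi), one_pow]
    · rw [← h.orderOf_odd hp hp2 (hi ▸ dvd_pow_self p (Nat.succ_ne_zero i)), pow_orderOf_eq_one]) hy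
  -- Frattini
  set K := normalizer (zpowers x : Set X) with hK
  have hfr : K ⊔ L = ⊤ := by
    have h1 := Sylow.normalizer_sup_eq_top P
    rw [← hP', hP'x] at h1
    exact h1
  have hLel : ∀ l ∈ L, ∃ o ∈ O', ∃ i : ℕ, l = o * x ^ i := by
    have hsur : Function.Surjective ((π.domRestrict L).codRestrict M fun l => l.2) := fun m => by
      obtain ⟨g, hg⟩ := QuotientGroup.mk'_surjective O' (m : X ⧸ O')
      exact ⟨⟨g, show π g ∈ M from hg ▸ m.2⟩, Subtype.ext hg⟩
    have hPtop : ((P.mapSurjective hsur : Sylow p M) : Subgroup M) = ⊤ :=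
      ((P.mapSurjective hsur).is_maximal' (hMpg.of_equiv Subgroup.topEquiv.symm) le_top).symm
    intro l hl
    obtain ⟨⟨y, hyL⟩, hy, he⟩ : (⟨π l, hl⟩ : M) ∈ ((P.mapSurjective hsur : Sylow p M) : Subgroup M) :=
      hPtop ▸ mem_top _
    have he' : π y = π l := congrArg Subtype.val he
    have hyP : y ∈ P' := ⟨_, hy, rfl⟩
    rw [hP'x] at hyP
    obtain ⟨i, hi⟩ := mem_powers_iff_mem_zpowers.2 hyP
    change x ^ i = y at hi
    refine ⟨l * (x ^ i)⁻¹, (QuotientGroup.eq_one_iff _).1 ?_, i, by group⟩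
    show π (l * (x ^ i)⁻¹) = 1
    rw [map_mul, map_inv, hi, he', mul_inv_cancel]
  -- the action on `⟨x⟩`
  set φ := (zpowers x).normalizerMonoidHom with hφ
  have hker : ∀ g : K, φ g = 1 → (g : X) ∈ zpowers x := fun g hg => hCx _ (by
    have h1 := congrArg Subtype.val (DFunLike.congr_fun hg ⟨x, mem_zpowers x⟩)
    exact (mul_inv_eq_iff_eq_mul.1 h1).symm)
  have hcard : Nat.card (zpowers x) = p := by rw [Nat.card_zpowers, hxp]
  haveI : IsCyclic (MulAut (zpowers x)) := by
    haveI : IsCyclic (ZMod (Nat.card (zpowers x)))ˣ := by rw [hcard]; infer_instance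
    exact isCyclic_of_surjective (IsCyclic.mulAutMulEquiv (zpowers x)).symm.toMonoidHom
      (IsCyclic.mulAutMulEquiv (zpowers x)).symm.surjective
  have haut : Nat.card (MulAut (zpowers x)) = p - 1 := by
    rw [IsCyclic.card_mulAut, hcard, Nat.totient_prime hp]
  haveI : Finite (MulAut (zpowers x)) := Nat.finite_of_card_ne_zero (by
    rw [haut]; have := hp.two_le; omega)
  obtain ⟨⟨α, a0, ha0⟩, hgen⟩ := IsCyclic.exists_generator (α := φ.range)
  have hxK : x ∈ K := le_normalizer (mem_zpowers x)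
  obtain ⟨k, a, haK, hk, hak, hφa⟩ : ∃ (k : ℕ) (a : X) (haK : a ∈ K),
      orderOf (φ a0) = 2 ^ k ∧ a ^ 2 ^ k = 1 ∧ φ ⟨a, haK⟩ = φ a0 := by
    rcases eq_or_ne (φ a0) 1 with e | e
    · exact ⟨0, 1, one_mem _, by rw [e, orderOf_one, pow_zero], one_pow _, by rw [e]; exact map_one φ⟩
    have hne : (a0 : X) ≠ 1 := fun e1 => e (by rw [show a0 = 1 from Subtype.ext e1, map_one])
    obtain ⟨m, hm⟩ : ∃ m, orderOf (a0 : X) = 2 ^ m := by
      rcases h a0 hne with hm | ⟨hr, -⟩
      · exact hm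
      refine ⟨1, ?_⟩
      rw [pow_one]
      by_contra hr2
      have hd : orderOf (φ a0) = orderOf (a0 : X) := by
        have := orderOf_map_dvd φ a0
        rw [← Subgroup.orderOf_coe a0] at this
        exact ((Nat.dvd_prime hr).1 this).resolve_left fun e1 => e (orderOf_eq_one_iff.1 e1)
      have hne' : p ≠ orderOf (a0 : X) := fun e1 => by
        have := orderOf_dvd_natCard (φ a0)
        rw [hd, ← e1, haut] at this
        have := Nat.le_of_dvd (by have := hp.two_le; omega) this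
        have := hp.two_le
        omega
      exact h.no_frobenius Nat.prime_two hZ2 hZc hZ1 (hnorm x) (hnorm a0) hp hr hp2 hr2 hne' hxp rfl
        ((mem_normalizer_iff.1 a0.2 x).1 (mem_zpowers x))
    obtain ⟨j, -, hj⟩ := (Nat.dvd_prime_pow Nat.prime_two).1
      (show orderOf (φ a0) ∣ 2 ^ m from hm ▸ (Subgroup.orderOf_coe a0).symm ▸ orderOf_map_dvd φ a0)
    refine ⟨j, (a0 : X), a0.2, hj, ?_, rfl⟩
    have hk' : φ (a0 ^ 2 ^ j) = 1 := by rw [map_pow, ← hj, pow_orderOf_eq_one]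
    obtain ⟨i, hi⟩ := mem_zpowers_iff.1 (hker _ hk')
    refine (h.comm_eq_one' (x := (a0 : X) ^ 2 ^ j) (y := (a0 : X) ^ 2 ^ j) rfl hp
      Nat.prime_two hp2 (i := 1) (j := m) ?_ ?_).elim id id
    · rw [pow_one, show (a0 : X) ^ 2 ^ j = x ^ i by rw [hi]; rfl, ← zpow_natCast, ← zpow_mul,
        mul_comm, zpow_mul, zpow_natCast, ← hxp, pow_orderOf_eq_one, one_zpow]
    · rw [← pow_mul, mul_comm, pow_mul, ← hm, pow_orderOf_eq_one, one_pow]
  refine ⟨O'.map X.subtype, (x : G), (a : G), p, k, ?_⟩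
  exact
    { le := map_subtype_le _
      norm := by
        intro g hg
        have hn := le_normalizer_map X.subtype (H := O') (mem_map_of_mem X.subtype
          (show (⟨g, hg⟩ : X) ∈ normalizer (O' : Set X) by rw [normalizer_eq_top]; exact mem_top _))
        exact hn
      two := hO2.map _
      nebot := fun e => hO1 ((map_eq_bot_iff_of_injective _ X.subtype_injective).1 e)
      maxi := fun E hE hEn hE2 g hg => ⟨⟨g, hE hg⟩, hmax E hE hEn hE2 hg, rfl⟩
      hp := hp
      hp2 := hp2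
      xX := x.2
      aX := a.2
      hx := by rw [Subgroup.orderOf_coe, hxp]
      ha := by simpa using congrArg Subtype.val hak
      conj := by
        obtain ⟨i, hi⟩ := mem_zpowers_iff.1 ((mem_normalizer_iff.1 haK x).1 (mem_zpowers x))
        exact mem_zpowers_iff.2 ⟨i, by simpa using congrArg Subtype.val hi⟩
      faith := fun j hj => by
        have hj' : a ^ j * x = x * a ^ j := Subtype.ext (by simpa using hj)
        rw [← hk, ← hφa, orderOf_dvd_iff_pow_eq_one, ← map_pow]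
        refine MulEquiv.ext fun y => Subtype.ext ?_
        obtain ⟨i, hi⟩ := mem_zpowers_iff.1 y.2
        show a ^ j * (y : X) * (a ^ j)⁻¹ = y
        rw [← hi, ← conj_zpow, hj', mul_inv_cancel_right]
      mem := fun g hg => by
        have h1 : (⟨g, hg⟩ : X) ∈ K ⊔ L := hfr ▸ mem_top _
        rw [mem_sup_of_normal_right] at h1
        obtain ⟨κ, hκ, l, hl, hkl⟩ := h1
        have hconj : κ * l * κ⁻¹ ∈ L := Subgroup.Normal.conj_mem inferInstance l hl κ
        obtain ⟨o, ho, i, hi⟩ := hLel _ hconj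
        obtain ⟨j, hj⟩ := mem_powers_iff_mem_zpowers.2 (hgen ⟨φ ⟨κ, hκ⟩, ⟨_, rfl⟩⟩)
        have hj' : φ a0 ^ j = φ ⟨κ, hκ⟩ := by
          rw [ha0]; exact congrArg Subtype.val hj
        have hc : φ (⟨κ, hκ⟩ * ((⟨a, haK⟩ : K) ^ j)⁻¹) = 1 := by
          rw [map_mul, map_inv, map_pow, hφa, hj', mul_inv_cancel]
        obtain ⟨i', hi'⟩ := mem_powers_iff_mem_zpowers.2 (hker _ hc)
        change x ^ i' = κ * (a ^ j)⁻¹ at hi'
        have hκe : κ = x ^ i' * a ^ j := by rw [hi', inv_mul_cancel_right]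
        refine ⟨(o : G), mem_map_of_mem X.subtype ho, i + i', j, ?_⟩
        have hg' : (⟨g, hg⟩ : X) = o * x ^ (i + i') * a ^ j := by
          rw [← hkl, show κ * l = κ * l * κ⁻¹ * κ by group, hi, hκe, pow_add]; group
        simpa using congrArg Subtype.val hg'
      kdvd := by
        rw [← hk, ← haut]
        exact orderOf_dvd_natCard _ }

end CfsgLib.PrimeOrders
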