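import Mathlib
import Cfsg.Agent.Lib.Classical.ProjLine

/-!
# Elements of `PSL₂(7)`
-/

set_option autoImplicit false
set_option linter.style.haveILetI false

namespace CfsgLib.PrimeOrders

open Subgroup

abbrev SL7 := Matrix.SpecialLinearGroup (Fin 2) (ZMod 7)

/-- `PSL₂(7)`. -/
abbrev P7 := Matrix.ProjectiveSpecialLinearGroup (Fin 2) (ZMod 7)

noncomputable def proj : SL7 →* P7 := QuotientGroup.mk' (center SL7)

theorem proj_eq_one {A : SL7} : proj A = 1 ↔ A ∈ center SL7 := QuotientGroup.eq_one_iff A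

theorem proj_ne_one {A B : SL7} (h : B * A ≠ A * B) : proj A ≠ 1 := fun e =>
  h (mem_center_iff.1 (proj_eq_one.1 e) B)

theorem neg_one_mem_center {A : SL7} (h : A.1 = -1) : A ∈ center SL7 :=
  mem_center_iff.2 fun B => Subtype.ext (by simp [h])

def xS : SL7 := ⟨!![1, 1; 0, 1], by decide⟩
def yS : SL7 := ⟨!![2, 0; 0, 4], by decide⟩
def iS : SL7 := ⟨!![0, 1; 6, 0], by decide⟩
def jS : SL7 := ⟨!![3, 2; 2, 4], by decide⟩

theorem exists_seven_three :
    ∃ x y : P7, orderOf x = 7 ∧ orderOf y = 3 ∧ y * x * y⁻¹ = x ^ 4 := by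
  haveI : Fact (Nat.Prime 7) := ⟨by norm_num⟩
  haveI : Fact (Nat.Prime 3) := ⟨by norm_num⟩
  refine ⟨proj xS, proj yS, orderOf_eq_prime ?_ (proj_ne_one (B := yS) (by decide)),
    orderOf_eq_prime ?_ (proj_ne_one (B := xS) (by decide)), ?_⟩
  · rw [← map_pow, show xS ^ 7 = 1 by decide, map_one]
  · rw [← map_pow, show yS ^ 3 = 1 by decide, map_one]
  · rw [← map_pow, ← map_inv, ← map_mul, ← map_mul, show yS * xS * yS⁻¹ = xS ^ 4 by decide]

theorem exists_klein :
    ∃ i j : P7, orderOf i = 2 ∧ orderOf j = 2 ∧ i ≠ j ∧ i * j = j * i := by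
  have h2 : ∀ A : SL7, (A * A).1 = -1 → proj A * proj A = 1 := fun A h => by
    rw [← map_mul]; exact proj_eq_one.2 (neg_one_mem_center h)
  have hi := proj_ne_one (A := iS) (B := xS) (by decide)
  have hj := proj_ne_one (A := jS) (B := xS) (by decide)
  have hij := h2 (iS * jS) (by decide)
  refine ⟨proj iS, proj jS, orderOf_eq_prime (by rw [pow_two]; exact h2 _ (by decide)) hi,
    orderOf_eq_prime (by rw [pow_two]; exact h2 _ (by decide)) hj, fun e => ?_, ?_⟩
  · refine proj_ne_one (A := iS⁻¹ * jS) (B := xS) (by decide) ?_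
    rw [map_mul, map_inv, e, inv_mul_cancel]
  · rw [map_mul] at hij
    have e1 : (proj iS)⁻¹ = proj iS := inv_eq_of_mul_eq_one_right (h2 _ (by decide))
    have e2 : (proj jS)⁻¹ = proj jS := inv_eq_of_mul_eq_one_right (h2 _ (by decide))
    have e3 : (proj iS * proj jS)⁻¹ = proj iS * proj jS := inv_eq_of_mul_eq_one_right hij
    rw [mul_inv_rev, e1, e2] at e3
    exact e3.symm

theorem card_P7 : Nat.card P7 = 168 := by
  haveI : Fact (Nat.Prime 7) := ⟨by norm_num⟩
  have h := CfsgLib.Classical.card_psl2 (F := ZMod 7)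
  rw [ZMod.card] at h
  norm_num at h
  rw [← Nat.card_eq_fintype_card] at h
  exact Nat.eq_of_mul_eq_mul_left two_pos (h.trans (by norm_num))

/-- Fields with seven elements give the same group. -/
theorem P7_congr {F : Type*} [Field F] [Fintype F] (hF : Fintype.card F = 7) :
    Nonempty (P7 ≃* Matrix.ProjectiveSpecialLinearGroup (Fin 2) F) := by
  haveI : Fact (Nat.Prime 7) := ⟨by norm_num⟩
  have σ : ZMod 7 ≃+* F := FiniteField.ringEquivOfCardEq (by rw [ZMod.card, hF])
  let ψ : SL7 ≃* Matrix.SpecialLinearGroup (Fin 2) F :=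
    MulEquiv.ofBijective (Matrix.SpecialLinearGroup.map σ.toRingHom)
      ⟨fun A B h => by
        ext i j
        exact σ.injective (congrFun (congrFun (congrArg Subtype.val h) i) j),
      fun B => ⟨Matrix.SpecialLinearGroup.map σ.symm.toRingHom B, by
        ext i j
        exact σ.apply_symm_apply (B.1 i j)⟩⟩
  refine ⟨QuotientGroup.congr _ _ ψ ?_⟩
  ext B
  constructor
  · rintro ⟨A, hA, rfl⟩
    exact mem_center_iff.2 fun C => by
      obtain ⟨D, rfl⟩ := ψ.surjective C
      show ψ D * ψ A = ψ A * ψ D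
      rw [← map_mul, ← map_mul, mem_center_iff.1 hA D]
  · intro hB
    obtain ⟨A, rfl⟩ := ψ.surjective B
    exact ⟨A, mem_center_iff.2 fun D => ψ.injective (by
      rw [map_mul, map_mul, mem_center_iff.1 hB (ψ D)]), rfl⟩

end CfsgLib.PrimeOrders
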