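import Cfsg.Agent.Lib.PrimeOrders.Solvable
import Cfsg.Agent.Lib.PrimeOrders.Model

/-!
# Reduction to simple groups with solvable local subgroups
-/

set_option autoImplicit false
set_option linter.style.haveILetI false

namespace CfsgLib.PrimeOrders

open Subgroup

universe u

variable {G : Type u} [Group G] [Finite G]

theorem exists_lift {Q : Type*} [Group Q] (h : Hyp G) (f : G →* Q) (hf : Function.Surjective f) {b : Q}
    {q : ℕ} (hq : q.Prime) (hq2 : q ≠ 2) (hb : orderOf b = q) : ∃ a, f a = b ∧ orderOf a = q := by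
  obtain ⟨a, ha⟩ := hf b
  exact ⟨a, ha, h.orderOf_odd hq hq2 (hb ▸ ha ▸ orderOf_map_dvd f a)⟩

/-- No quotient by a nontrivial abelian normal `p`-subgroup is `PSL₂(7)`. -/
theorem Hyp.no_radical (h : Hyp G) {V : Subgroup G} [V.Normal] (hV1 : V ≠ ⊥)
    (hV : ∀ a ∈ V, ∀ b ∈ V, a * b = b * a) {p : ℕ} (hp : p.Prime) (hVp : IsPGroup p V)
    (e : G ⧸ V ≃* P7) : False := by
  let f : G →* P7 := e.toMonoidHom.comp (QuotientGroup.mk' V)
  have hf : Function.Surjective f := e.surjective.comp (QuotientGroup.mk'_surjective V)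
  have hker : ∀ g, f g = 1 ↔ g ∈ V := fun g => by
    simp [f]
  have hnorm : ∀ g : G, g ∈ normalizer (V : Set G) := fun g => by
    rw [normalizer_eq_top]; exact mem_top g
  by_cases hp2 : p = 2
  · obtain ⟨x, y, hx, hy, hyx⟩ := exists_seven_three
    obtain ⟨a, ha, hao⟩ := exists_lift h f hf (by norm_num : Nat.Prime 7) (by norm_num) hx
    obtain ⟨b, hb, hbo⟩ := exists_lift h f hf (by norm_num : Nat.Prime 3) (by norm_num) hy
    have hpp : Fact p.Prime := ⟨hp⟩
    set w := b * a * b⁻¹ with hw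
    have ha4 : orderOf (a ^ 4) = 7 := by
      rw [orderOf_pow' a (by norm_num), hao]; norm_num
    have hwv : (a ^ 4)⁻¹ * w ∈ V := by
      rw [← hker, map_mul, map_inv, map_pow, hw, map_mul, map_mul, map_inv, ha, hb, hyx, inv_mul_cancel]
    have hinj : Function.Injective (fun v : V => (⟨(a ^ 4)⁻¹ * v * a ^ 4 * (v : G)⁻¹,
        mul_mem (by simpa using Subgroup.Normal.conj_mem inferInstance (v : G) v.2 (a ^ 4)⁻¹)
          (inv_mem v.2)⟩ : V)) := by
      intro u v huv
      have e1 : (a ^ 4)⁻¹ * (u : G) * a ^ 4 * (u : G)⁻¹ = (a ^ 4)⁻¹ * v * a ^ 4 * (v : G)⁻¹ :=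
        congrArg Subtype.val huv
      have h2 : a ^ 4 * ((u : G)⁻¹ * v) = ((u : G)⁻¹ * v) * a ^ 4 := by
        have e2 : (u : G) * a ^ 4 * (u : G)⁻¹ = v * a ^ 4 * (v : G)⁻¹ := by
          exact mul_left_cancel (a := (a ^ 4)⁻¹) (by simpa only [mul_assoc] using e1)
        calc a ^ 4 * ((u : G)⁻¹ * v) = (u : G)⁻¹ * ((u : G) * a ^ 4 * (u : G)⁻¹) * v := by group
          _ = (u : G)⁻¹ * ((v : G) * a ^ 4 * (v : G)⁻¹) * v := by rw [e2]
          _ = _ := by group
      have := h.fpf hp hVp (by norm_num : Nat.Prime 7) (by omega) (ha4 ▸ pow_orderOf_eq_one (a ^ 4))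
        (fun e1 => by rw [e1, orderOf_one] at ha4; omega) (mul_mem (inv_mem u.2) v.2) h2
      exact Subtype.ext (inv_mul_eq_one.1 this)
    obtain ⟨v, hv⟩ := (Finite.injective_iff_surjective.1 hinj) ⟨_, hwv⟩
    have hv' : (v : G) * a ^ 4 * (v : G)⁻¹ = w :=
      mul_left_cancel (a := (a ^ 4)⁻¹) (by simpa only [mul_assoc] using congrArg Subtype.val hv)
    set c := (v : G)⁻¹ * b with hc
    have hca : c * a * c⁻¹ = a ^ 4 := by
      rw [hc, show (v : G)⁻¹ * b * a * ((v : G)⁻¹ * b)⁻¹ = (v : G)⁻¹ * (b * a * b⁻¹) * v by group,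
        ← hw, ← hv']
      group
    have hfc : f c = y := by rw [hc, map_mul, hb, (hker _).2 (inv_mem v.2), one_mul]
    have hco : orderOf c = 3 :=
      h.orderOf_odd (by norm_num) (by norm_num) (hy ▸ hfc ▸ orderOf_map_dvd f c)
    exact h.no_frobenius hp hVp hV hV1 (hnorm a) (hnorm c) (q := 7) (r := 3) (by norm_num) (by norm_num)
      (by omega) (by omega) (by norm_num) hao hco (hca ▸ npow_mem_zpowers a 4)
  · obtain ⟨i, j, hi, hj, hij, hcomm⟩ := exists_klein
    have hsqb : ∀ b : P7, orderOf b = 2 → b * b = 1 := fun b hb => by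
      rw [← pow_two, ← orderOf_dvd_iff_pow_eq_one, hb]
    have hlift : ∀ b : P7, orderOf b = 2 → ∀ a, f a = b → a * a = 1 ∧ orderOf a = 2 := by
      intro b hb a ha
      have hd : 2 ∣ orderOf a := hb ▸ ha ▸ orderOf_map_dvd f a
      have ha1 : a ≠ 1 := fun e1 => by rw [e1, orderOf_one] at hd; omega
      have hsq : a * a ∈ V := by
        rw [← hker, map_mul, ha, hsqb b hb]
      obtain ⟨k, hk⟩ := hVp ⟨a * a, hsq⟩
      obtain ⟨m, hm⟩ : ∃ m, orderOf a = 2 ^ m := by
        rcases h a ha1 with hm | ⟨hm, -⟩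
        · exact hm
        · exact ⟨1, ((Nat.prime_dvd_prime_iff_eq Nat.prime_two hm).1 hd).symm.trans (pow_one 2).symm⟩
      have h1 : a * a = 1 := by
        rcases h.comm_eq_one' (x := a * a) (y := a * a) rfl hp Nat.prime_two hp2 (i := k) (j := m)
          (by simpa using congrArg Subtype.val hk)
          (by rw [(Commute.refl a).mul_pow, ← hm, pow_orderOf_eq_one, one_mul]) with e1 | e1 <;>
        exact e1
      exact ⟨h1, orderOf_eq_prime (by rw [pow_two]; exact h1) ha1⟩
    obtain ⟨a, ha⟩ := hf i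
    obtain ⟨b, hb⟩ := hf j
    obtain ⟨haa, hao⟩ := hlift i hi a ha
    obtain ⟨hbb, hbo⟩ := hlift j hj b hb
    have hijo : orderOf (i * j) = 2 := orderOf_eq_prime (by
        rw [(show Commute i j from hcomm).mul_pow, pow_two, pow_two, hsqb i hi, hsqb j hj, one_mul])
      (fun e1 => hij (by rw [eq_inv_of_mul_eq_one_left e1, inv_eq_of_mul_eq_one_right
        (hsqb j hj)]))
    obtain ⟨habab, -⟩ := hlift (i * j) hijo (a * b) (by rw [map_mul, ha, hb])
    have hab : a * b = b * a := by
      calc a * b = (a * b)⁻¹ := (inv_eq_of_mul_eq_one_right habab).symm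
        _ = b * a := by rw [mul_inv_rev, inv_eq_of_mul_eq_one_right haa, inv_eq_of_mul_eq_one_right hbb]
    have := h.mem_zpowers_of_normalize hp hVp hV hV1 (hnorm a) (hnorm b) Nat.prime_two (Ne.symm hp2)
      hao (by rw [pow_two]; exact hbb) hab
    obtain ⟨k, hk⟩ := mem_zpowers_iff.1 this
    have hfk : j = i ^ k := by rw [← hb, ← hk, map_zpow, ha]
    rcases Int.emod_two_eq_zero_or_one k with hk2 | hk2
    · obtain ⟨l, rfl⟩ := Int.dvd_of_emod_eq_zero hk2
      rw [zpow_mul, zpow_two, hsqb i hi, one_zpow] at hfk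
      rw [hfk, orderOf_one] at hj; omega
    · refine hij ?_
      rw [hfk, ← Int.emod_add_mul_ediv k 2, hk2, zpow_add, zpow_one, zpow_mul, zpow_two,
        hsqb i hi, one_zpow, mul_one]

/-- Nonsolvable groups of this kind have no nontrivial solvable normal subgroup, granted the
smaller ones are `PSL₂(7)`. -/
theorem Hyp.no_solvable_normal {X : Type u} [Group X] [Finite X] (h : Hyp X)
    (IH : ∀ (Y : Type u) [Group Y] [Finite Y], Nat.card Y < Nat.card X → Hyp Y →
      ¬ Group.IsSolvable Y → Nonempty (Y ≃* P7))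
    (hns : ¬ Group.IsSolvable X) {R : Subgroup X} [R.Normal] (hR1 : R ≠ ⊥) (hR : Group.IsSolvable R) :
    False := by
  obtain ⟨V, hVn, hV1, hVR, hmin⟩ := CfsgLib.Coprime.exists_minimal_normal_le hR1
  haveI := hVn
  haveI := hR
  haveI : Group.IsSolvable V :=
    Group.isSolvable_of_isSolvable_injective (Subgroup.inclusion_injective hVR)
  obtain ⟨hVc, s, hs, hVs⟩ := CfsgLib.Coprime.minimal_normal_solvable hV1 hmin
  have hVp : IsPGroup s V := fun v => ⟨1, Subtype.ext (by rw [pow_one]; exact hVs v v.2)⟩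
  have hlt : Nat.card (X ⧸ V) < Nat.card X := by
    rw [← V.index_eq_card, ← V.card_mul_index]
    exact lt_mul_of_one_lt_left (Nat.pos_of_ne_zero V.index_ne_zero_of_finite)
      (V.one_lt_card_iff_ne_bot.2 hV1)
  obtain ⟨e⟩ := IH (X ⧸ V) hlt (h.of_surjective (QuotientGroup.mk' V) (QuotientGroup.mk'_surjective V))
    (fun hq => hns (Group.isSolvable_of_ker_le_range V.subtype (QuotientGroup.mk' V)
      (by rw [QuotientGroup.ker_mk', Subgroup.range_subtype])))
  exact h.no_radical hV1 hVc hs hVp e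

/-- A normal copy of `PSL₂(7)` is the whole group. -/
theorem Hyp.eq_top_of_normal_P7 (h : Hyp G) {N : Subgroup G} [N.Normal] (e : N ≃* P7) : N = ⊤ := by
  by_contra hN
  haveI : Fact (Nat.Prime 7) := ⟨by norm_num⟩
  haveI : Fact (Nat.Prime 3) := ⟨by norm_num⟩
  obtain ⟨x0, y0, hx0, hy0, hyx0⟩ := exists_seven_three
  set x : G := ((e.symm x0 : N) : G) with hxdef
  set y : G := ((e.symm y0 : N) : G) with hydef
  have hx : orderOf x = 7 := by rw [hxdef, Subgroup.orderOf_coe, MulEquiv.orderOf_eq, hx0]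
  have hy : orderOf y = 3 := by rw [hydef, Subgroup.orderOf_coe, MulEquiv.orderOf_eq, hy0]
  have hxN : x ∈ N := SetLike.coe_mem _
  have hyN : y ∈ N := SetLike.coe_mem _
  have hyx : y * x * y⁻¹ = x ^ 4 := by
    have := congrArg (fun z => ((e.symm z : N) : G)) hyx0
    simpa [hxdef, hydef] using this
  have hNcard : Nat.card N = 168 := (Nat.card_congr e.toEquiv).trans card_P7
  have hfrat : ∀ (z : G) (q : ℕ) [Fact q.Prime], z ∈ N → orderOf z = q → q ∣ 168 → ¬ q ^ 2 ∣ 168 →
      normalizer (zpowers z : Set G) ⊔ N = ⊤ := by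
    intro z q _ hz hzo hd hd2
    have hle : zpowers z ≤ N := zpowers_le.2 hz
    have hcard : Nat.card ((zpowers z).subgroupOf N) = q := by
      rw [Nat.card_congr (subgroupOfEquivOfLe hle).toEquiv, Nat.card_zpowers, hzo]
    have hfac : (168 : ℕ).factorization q = 1 := by
      have hq := (Fact.out : q.Prime)
      have h1 : 1 ≤ (168 : ℕ).factorization q := hq.dvd_iff_one_le_factorization (by norm_num) |>.1 hd
      have h2 : ¬ 2 ≤ (168 : ℕ).factorization q := fun h2 =>
        hd2 ((hq.pow_dvd_iff_le_factorization (by norm_num)).2 h2)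
      omega
    let P : Sylow q N := Sylow.ofCard ((zpowers z).subgroupOf N) (by rw [hcard, hNcard, hfac, pow_one])
    have hP : (P : Subgroup N).map N.subtype = zpowers z := by
      simp [P, subgroupOf_map_subtype, inf_of_le_left hle]
    have := Sylow.normalizer_sup_eq_top P
    rwa [hP] at this
  have hK := hfrat x 7 hxN hx (by norm_num) (by norm_num)
  have hK3 := hfrat y 3 hyN hy (by norm_num) (by norm_num)
  set K := normalizer (zpowers x : Set G) with hKdef
  set φ := (zpowers x).normalizerMonoidHom with hφ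
  haveI : IsCyclic (zpowers x) := inferInstance
  have hxcard : Nat.card (zpowers x) = 7 := by rw [Nat.card_zpowers, hx]
  have hyK : y ∈ K := by
    refine CfsgLib.PrimeOrders.mem_normalizer_zpowers ?_
    rw [hyx]; exact npow_mem_zpowers x 4
  have hker : ∀ g : K, φ g = 1 → (g : G) * x = x * g := fun g hg => by
    have h1 := congrArg Subtype.val (DFunLike.congr_fun hg ⟨x, mem_zpowers x⟩)
    exact mul_inv_eq_iff_eq_mul.1 h1
  have haut : Nat.card (MulAut (zpowers x)) = 6 := by
    rw [IsCyclic.card_mulAut, hxcard]; rfl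
  haveI : Finite (MulAut (zpowers x)) := Nat.finite_of_card_ne_zero (by rw [haut]; norm_num)
  haveI : IsCyclic (MulAut (zpowers x)) := by
    haveI : IsCyclic (ZMod (Nat.card (zpowers x)))ˣ := by rw [hxcard]; infer_instance
    exact isCyclic_of_surjective (IsCyclic.mulAutMulEquiv (zpowers x)).symm.toMonoidHom
      (IsCyclic.mulAutMulEquiv (zpowers x)).symm.surjective
  have hφy : φ ⟨y, hyK⟩ ≠ 1 := fun e1 => by
    rcases h.comm_eq_one (hker _ e1) (by rw [hy, hx]; norm_num) with e2 | e2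
    · rw [show y = 1 from e2, orderOf_one] at hy; omega
    · rw [e2, orderOf_one] at hx; omega
  have hoy : orderOf (φ ⟨y, hyK⟩) = 3 := orderOf_eq_prime (by
    rw [← map_pow, show (⟨y, hyK⟩ : K) ^ 3 = 1 from Subtype.ext (by
      simpa using hy ▸ pow_orderOf_eq_one y), map_one]) hφy
  have hrange : Nat.card φ.range = 3 := by
    have h1 : Nat.card φ.range ∣ 6 := haut ▸ Subgroup.card_subgroup_dvd_card _
    have h2 : 3 ∣ Nat.card φ.range := hoy ▸ Subgroup.orderOf_dvd_natCard _ ⟨_, rfl⟩
    obtain ⟨k, hk⟩ := h2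
    have hk2 : k ∣ 2 := by
      rw [hk] at h1
      exact (Nat.mul_dvd_mul_iff_left (a := 3) (by norm_num)).1 h1
    rcases (Nat.dvd_prime Nat.prime_two).1 hk2 with rfl | rfl
    · omega
    obtain ⟨⟨g, hg⟩, hgen⟩ := IsCyclic.exists_ofOrder_eq_natCard (α := φ.range)
    obtain ⟨g0, rfl⟩ := hg
    rw [← Subgroup.orderOf_coe, hk] at hgen
    have h6 : 6 ∣ orderOf (g0 : G) := by
      rw [Subgroup.orderOf_coe, ← show orderOf (φ g0) = 6 by simpa using hgen]
      exact orderOf_map_dvd φ g0
    have := h.prime_eq Nat.prime_two (by norm_num : Nat.Prime 3) ((by norm_num : 2 ∣ 6).trans h6)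
      ((by norm_num : 3 ∣ 6).trans h6)
    omega
  have hzp : zpowers (φ ⟨y, hyK⟩) = φ.range := Subgroup.eq_of_le_of_card_ge
    (zpowers_le.2 ⟨_, rfl⟩) (by rw [Nat.card_zpowers, hoy, hrange])
  -- the quotient is a 7-group
  have hquot : ∀ q : G ⧸ N, q ^ 7 = 1 := by
    intro q
    obtain ⟨g, rfl⟩ := QuotientGroup.mk'_surjective N q
    obtain ⟨k, hk, n, hn, rfl⟩ : ∃ k ∈ K, ∃ n ∈ N, k * n = g := by
      have : g ∈ K ⊔ N := hK ▸ mem_top g
      rw [mem_sup_of_normal_right] at this
      exact this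
    obtain ⟨i, hi⟩ := mem_zpowers_iff.1 (show φ ⟨k, hk⟩ ∈ zpowers (φ ⟨y, hyK⟩) by rw [hzp]; exact ⟨_, rfl⟩)
    set c : K := ⟨k, hk⟩ * (⟨y, hyK⟩ ^ i)⁻¹ with hcdef
    have hc : φ c = 1 := by rw [hcdef, map_mul, map_inv, map_zpow, hi, mul_inv_cancel]
    have hc7 : (c : G) ^ 7 = 1 := by
      rcases eq_or_ne (c : G) 1 with e1 | e1
      · rw [e1, one_pow]
      obtain ⟨p, hp, hpc⟩ := Nat.exists_prime_and_dvd (fun e2 => e1 (orderOf_eq_one_iff.1 e2))
      have hp7 : p = 7 := by
        by_contra hne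
        obtain ⟨j, hj⟩ := exists_orderOf_pow hpc
        rcases h.comm_eq_one (Commute.pow_left (hker c hc) j).eq
          (by rw [hj, hx]; exact (Nat.coprime_primes hp (by norm_num)).2 hne) with e2 | e2
        · rw [e2, orderOf_one] at hj; exact hp.ne_one hj.symm
        · rw [e2, orderOf_one] at hx; omega
      rw [hp7] at hpc
      rw [← h.orderOf_odd (by norm_num) (by norm_num) hpc, pow_orderOf_eq_one]
    have hmk : QuotientGroup.mk' N (k * n) = QuotientGroup.mk' N (c : G) := by
      rw [QuotientGroup.mk'_eq_mk']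
      refine ⟨(k * n)⁻¹ * (c : G), ?_, by group⟩
      rw [show (k * n)⁻¹ * (c : G) = n⁻¹ * (y ^ i)⁻¹ by simp only [hcdef, Subgroup.coe_mul, Subgroup.coe_inv, Subgroup.coe_zpow]; group]
      exact mul_mem (inv_mem hn) (inv_mem (zpow_mem hyN i))
    rw [hmk, ← map_pow, hc7, map_one]
  obtain ⟨g, hg⟩ : ∃ g : G, g ∉ N := by
    by_contra hall
    push Not at hall
    exact hN ((eq_top_iff' N).2 hall)
  obtain ⟨k, hk, n, hn, rfl⟩ : ∃ k ∈ normalizer (zpowers y : Set G), ∃ n ∈ N, k * n = g := by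
    have : g ∈ normalizer (zpowers y : Set G) ⊔ N := hK3 ▸ mem_top g
    rw [mem_sup_of_normal_right] at this
    exact this
  have hkN : k ∉ N := fun e1 => hg (mul_mem e1 hn)
  have hk7 : orderOf k = 7 := by
    refine h.orderOf_odd (by norm_num) (by norm_num) ?_
    refine dvd_trans ?_ (orderOf_map_dvd (QuotientGroup.mk' N) k)
    exact dvd_of_eq (orderOf_eq_prime (hquot (QuotientGroup.mk' N k)) fun e1 => hkN ((QuotientGroup.eq_one_iff k).1 e1)).symm
  obtain ⟨c, hc⟩ := mem_powers_iff_mem_zpowers.2 ((mem_normalizer_iff.1 hk y).1 (mem_zpowers y))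
  have hkk : (k * k) * y = y * (k * k) := by
    change y ^ c = k * y * k⁻¹ at hc
    have h2 : (k * k) * y * (k * k)⁻¹ = y ^ (c * c) := by
      rw [pow_mul, hc, conj_pow, hc]; group
    have hy1 : y ≠ 1 := fun e1 => by rw [e1, orderOf_one] at hy; omega
    have hc0 : c % 3 ≠ 0 := fun e1 => hy1 (by
      rw [← hy] at e1
      rw [pow_eq_one_iff_modEq.2 (e1 : c % orderOf y = 0 % orderOf y) ] at hc
      exact conj_eq_one_iff.1 hc.symm)
    have hcc : c * c % 3 = 1 := by
      have : c % 3 = 1 ∨ c % 3 = 2 := by omega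
      rcases this with e1 | e1 <;> rw [Nat.mul_mod, e1]
    rw [← pow_mod_orderOf, hy, hcc, pow_one] at h2
    exact mul_inv_eq_iff_eq_mul.1 h2
  rcases h.comm_eq_one hkk (by
      rw [← pow_two, orderOf_pow' k (by norm_num), hk7, hy]; norm_num) with e1 | e1
  · rw [← pow_two, ← orderOf_dvd_iff_pow_eq_one, hk7] at e1; norm_num at e1
  · rw [e1, orderOf_one] at hy; omega

/-- Local subgroups are solvable. -/
def SolvableLocals (G : Type*) [Group G] : Prop :=
  ∀ D : Subgroup G, D ≠ ⊥ → IsPGroup 2 D → Group.IsSolvable (normalizer (D : Set G))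

/-- Reduction to the simple case. -/
theorem Hyp.iso_of_simple_case
    (hsimple : ∀ (X : Type u) [Group X] [Finite X], IsSimpleGroup X → Hyp X → ¬ Group.IsSolvable X →
      SolvableLocals X → Nonempty (X ≃* P7))
    (n : ℕ) : ∀ (X : Type u) [Group X] [Finite X], Nat.card X = n → Hyp X → ¬ Group.IsSolvable X →
      Nonempty (X ≃* P7) := by
  induction n using Nat.strongRecOn with
  | ind n ih =>
    intro X _ _ hn h hns
    have IH : ∀ (Y : Type u) [Group Y] [Finite Y], Nat.card Y < Nat.card X → Hyp Y →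
        ¬ Group.IsSolvable Y → Nonempty (Y ≃* P7) := fun Y _ _ hlt hY hY' =>
      ih _ (hn ▸ hlt) Y rfl hY hY'
    haveI : Nontrivial X := by
      by_contra hnt
      rw [not_nontrivial_iff_subsingleton] at hnt
      exact hns inferInstance
    obtain ⟨N, hNn, hN1, -, hmin⟩ :=
      CfsgLib.Coprime.exists_minimal_normal_le (N := (⊤ : Subgroup X)) top_ne_bot
    haveI := hNn
    have hNns : ¬ Group.IsSolvable N := fun hs => h.no_solvable_normal IH hns hN1 hs
    by_cases hNtop : N = ⊤
    · have hsimp : IsSimpleGroup X := ⟨fun M hM => by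
        rcases hmin M hM (hNtop ▸ le_top) with e | e
        · exact Or.inl e
        · exact Or.inr (e.trans hNtop)⟩
      refine hsimple X hsimp h hns fun D hD1 hD2 => ?_
      by_contra hY
      have hproper : normalizer (D : Set X) ≠ ⊤ := fun e => by
        haveI : D.Normal := normalizer_eq_top_iff.1 e
        rcases hsimp.eq_bot_or_eq_top_of_normal D inferInstance with e1 | e1
        · exact hD1 e1
        · haveI : Group.IsSolvable D := by haveI := hD2.isNilpotent; infer_instance
          exact h.no_solvable_normal IH hns hD1 inferInstance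
      refine Hyp.no_solvable_normal (h.subgroup _) (fun Y _ _ hlt => IH Y (lt_of_lt_of_le hlt
        (Subgroup.card_le_card_group _))) hY (R := D.subgroupOf (normalizer (D : Set X))) ?_ ?_
      · rwa [Ne, subgroupOf_eq_bot, disjoint_iff, inf_of_le_left le_normalizer]
      · haveI : Group.IsSolvable D := by haveI := hD2.isNilpotent; infer_instance
        exact Group.isSolvable_of_isSolvable_injective
          (subgroupOfEquivOfLe (le_normalizer (H := D))).injective (f := MulEquiv.toMonoidHom _)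
    · obtain ⟨e⟩ := IH N (lt_of_le_of_ne (Subgroup.card_le_card_group N)
        (fun e => hNtop (Subgroup.eq_top_of_card_eq N e))) (h.subgroup N) hNns
      exact absurd (h.eq_top_of_normal_P7 e) hNtop

end CfsgLib.PrimeOrders
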