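import Cfsg.Agent.Lib.PrimeOrders.Unique
import Cfsg.Agent.Lib.PrimeOrders.Reduce

/-!
# A common overgroup of the local subgroups with a given Sylow two-subgroup

Assuming that no local subgroup is `S₄`, for each two-group `S` some characteristic subgroup `U` is
normal in every local subgroup having `S` as a Sylow two-subgroup.
-/

set_option autoImplicit false
set_option linter.style.haveILetI false

namespace CfsgLib.PrimeOrders

open Subgroup

universe u

variable {G : Type u} [Group G] [Finite G]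

/-- Normalizers of nontrivial two-subgroups. -/
def Loc (X : Subgroup G) : Prop :=
  ∃ D : Subgroup G, D ≠ ⊥ ∧ IsPGroup 2 D ∧ X = normalizer (D : Set G)

/-- No local subgroup is of type `S₄`. -/
def NoKlein (G : Type u) [Group G] : Prop :=
  ∀ (X S O : Subgroup G) (x a : G) (p k : ℕ), Loc X → SylData X S O x a p k →
    1 ≤ k → Nat.card (omegaZ O) = 4 → Nat.card O ≠ 4

theorem Loc.solvable (hsol : SolvableLocals G) {X : Subgroup G} (hX : Loc X) : Group.IsSolvable X := by
  obtain ⟨D, hD1, hD2, rfl⟩ := hX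
  exact hsol D hD1 hD2

theorem Loc.exists_sylData (hG : Hyp G) (hsol : SolvableLocals G) {X : Subgroup G} (hX : Loc X)
    {S : Subgroup G} (hS : IsSyl S X) :
    (X ≤ S ∧ S ≠ ⊥) ∨ ∃ O x a p k, SylData X S O x a p k := by
  haveI : Fact (Nat.Prime 2) := ⟨Nat.prime_two⟩
  have hsX := hX.solvable hsol
  obtain ⟨D, hD1, hD2, rfl⟩ := hX
  by_cases hX2 : IsPGroup 2 (normalizer (D : Set G))
  · have heq : S = normalizer (D : Set G) := eq_of_le_of_card_ge hS.1 (hS.2.2 _ le_rfl hX2)
    refine Or.inl ⟨heq.ge, fun e => hD1 (le_bot_iff.1 ?_)⟩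
    rw [← e, heq]
    exact le_normalizer
  · exact Or.inr (CfsgLib.PrimeOrders.exists_sylData hG hsX hD1 le_normalizer le_rfl hD2 hX2 hS)

theorem mem_normalizer_of_map_le {H : Subgroup G} {g : G}
    (h : H.map (MulAut.conj g).toMonoidHom ≤ H) : g ∈ normalizer (H : Set G) := by
  have heq := Subgroup.eq_of_le_of_card_ge h
    (Subgroup.card_map_of_injective (MulAut.conj g).injective).ge
  refine mem_normalizer_iff.2 fun y => ⟨fun hy => h ⟨y, hy, rfl⟩, fun hy => ?_⟩
  rw [← heq] at hy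
  obtain ⟨z, hz, e⟩ := hy
  exact (MulAut.conj g).injective e ▸ hz

theorem card_conj (g : G) (H : Subgroup G) :
    Nat.card (H.map (MulAut.conj g).toMonoidHom : Subgroup G) = Nat.card H :=
  Subgroup.card_map_of_injective (MulAut.conj g).injective

theorem conj_map_le {g : G} {S : Subgroup G} (hg : g ∈ normalizer (S : Set G)) {H : Subgroup G}
    (hH : H ≤ S) : H.map (MulAut.conj g).toMonoidHom ≤ S := by
  rintro _ ⟨h, hh, rfl⟩
  exact (mem_normalizer_iff.1 hg h).1 (hH hh)

theorem le_normalizer_conj_map {g : G} {S : Subgroup G} (hg : g ∈ normalizer (S : Set G))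
    {H : Subgroup G} (hH : S ≤ normalizer (H : Set G)) :
    S ≤ normalizer (H.map (MulAut.conj g).toMonoidHom : Set G) := by
  intro s hs
  have hs' : g⁻¹ * s * g ∈ S := by simpa using (mem_normalizer_iff.1 (inv_mem hg) s).1 hs
  refine mem_normalizer_of_map_le ?_
  rintro _ ⟨_, ⟨h, hh, rfl⟩, rfl⟩
  refine ⟨g⁻¹ * s * g * h * (g⁻¹ * s * g)⁻¹, (mem_normalizer_iff.1 (hH hs') h).1 hh, ?_⟩
  simp [MulAut.conj_apply]
  group

/-- The subgroup generated by the largest elementary subgroups. -/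
def Jel (S : Subgroup G) : Subgroup G := sSup {A | MaxEl S A}

theorem Jel_le (S : Subgroup G) : Jel S ≤ S := sSup_le fun _ hA => hA.1

theorem exists_maxEl (S : Subgroup G) : ∃ A, MaxEl S A := by
  classical
  have : Set.Nonempty {A : Subgroup G | A ≤ S ∧ El A} :=
    ⟨⊥, bot_le, fun a ha => by rw [mem_bot.1 ha, one_mul]⟩
  obtain ⟨A, hA, hmax⟩ := Set.exists_max_image _ (fun A : Subgroup G => Nat.card A) (Set.toFinite _) this
  exact ⟨A, hA.1, hA.2, fun B hB hBel => hmax B ⟨hB, hBel⟩⟩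

theorem Jel_ne_bot {S : Subgroup G} (hS : S ≠ ⊥) (hS2 : IsPGroup 2 S) : Jel S ≠ ⊥ := by
  haveI : Fact (Nat.Prime 2) := ⟨Nat.prime_two⟩
  obtain ⟨A, hA⟩ := exists_maxEl S
  haveI : Nontrivial S := (nontrivial_iff_ne_bot S).2 hS
  obtain ⟨m, hm0, hm⟩ := hS2.nontrivial_iff_card.1 inferInstance
  obtain ⟨z, hz⟩ := exists_prime_orderOf_dvd_card' (G := S) 2 (hm ▸ dvd_pow_self 2 hm0.ne')
  rw [← Subgroup.orderOf_coe] at hz
  have hz2 : (z : G) * z = 1 := by rw [← pow_two, ← hz, pow_orderOf_eq_one]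
  have h1 := hA.2.2 (zpowers (z : G)) (zpowers_le.2 z.2) (fun b hb => by
    obtain ⟨i, rfl⟩ := mem_zpowers_iff.1 hb
    rw [← (Commute.refl (z : G)).mul_zpow, hz2, one_zpow])
  rw [Nat.card_zpowers, hz] at h1
  intro e
  have h2 : A = ⊥ := le_bot_iff.1 (e ▸ le_sSup (show A ∈ {A | MaxEl S A} from hA))
  rw [h2, Subgroup.card_bot] at h1
  omega

theorem maxEl_conj {S A : Subgroup G} (hA : MaxEl S A) {g : G}
    (h : A.map (MulAut.conj g).toMonoidHom ≤ S) : MaxEl S (A.map (MulAut.conj g).toMonoidHom) := by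
  refine ⟨h, ?_, fun B hB hBel => (hA.2.2 B hB hBel).trans (card_conj g A).ge⟩
  rintro _ ⟨a, ha, rfl⟩
  rw [← map_mul, hA.2.1 a ha, map_one]

theorem mem_normalizer_Jel {S : Subgroup G} {g : G}
    (h : ∀ A, MaxEl S A → A.map (MulAut.conj g).toMonoidHom ≤ S) : g ∈ normalizer (Jel S : Set G) := by
  refine mem_normalizer_of_map_le (map_le_iff_le_comap.2 (sSup_le fun A hA => ?_))
  exact map_le_iff_le_comap.1 (le_sSup (maxEl_conj hA (h A hA)))

theorem normalizer_le_normalizer_Jel (S : Subgroup G) :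
    normalizer (S : Set G) ≤ normalizer (Jel S : Set G) := fun _ hg =>
  mem_normalizer_Jel fun _ hA => conj_map_le hg hA.1

theorem eq_one_of_big {H p k : ℕ} (hp : p.Prime) (hp2 : p ≠ 2) (hpH : p ∣ H - 1) (hH : 4 ≤ H)
    (hk : 1 ≤ k) (hkp : 2 ^ k ∣ p - 1) (hH2 : ∃ j, H = 2 ^ j) (hle : H ≤ 2 ^ (k + 1)) : k = 1 := by
  obtain ⟨j, rfl⟩ := hH2
  have h3 := hp.two_le
  have hle' : 2 ^ k ≤ p - 1 := Nat.le_of_dvd (by omega) hkp
  have hlt : 2 ^ (k + 1) = 2 * 2 ^ k := pow_succ' 2 k
  obtain ⟨m, hm⟩ := hpH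
  have hm0 : m ≠ 0 := by rintro rfl; omega
  have hm1 : m = 1 := by
    by_contra hne
    have : p * 2 ≤ p * m := Nat.mul_le_mul_left p (by omega)
    omega
  subst hm1
  rw [mul_one] at hm
  have hj : j = k + 1 := by
    refine le_antisymm ((Nat.pow_le_pow_iff_right (by norm_num)).1 hle) ?_
    by_contra hj
    have : 2 ^ j ≤ 2 ^ k := Nat.pow_le_pow_right (by norm_num) (by omega)
    omega
  subst hj
  obtain ⟨c, hc⟩ := hkp
  by_contra hne
  have h4 : 4 ≤ 2 ^ k := by
    calc 4 = 2 ^ 2 := rfl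
      _ ≤ _ := Nat.pow_le_pow_right (by norm_num) (by omega)
  have hc2 : c < 2 := by
    by_contra hc2
    have : 2 ^ k * 2 ≤ 2 ^ k * c := Nat.mul_le_mul_left _ (by omega)
    omega
  interval_cases c <;> omega

section
variable (hG : Hyp G) (hsol : SolvableLocals G)
include hG hsol

/-- A common overgroup. -/
theorem exists_common (hNK : NoKlein G) {S : Subgroup G} (hS1 : S ≠ ⊥) (hS2 : IsPGroup 2 S) :
    ∃ U : Subgroup G, U ≠ ⊥ ∧ IsPGroup 2 U ∧ normalizer (S : Set G) ≤ normalizer (U : Set G) ∧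
      ∀ Y, Loc Y → IsSyl S Y → Y ≤ normalizer (U : Set G) := by
  haveI : Fact (Nat.Prime 2) := ⟨Nat.prime_two⟩
  by_cases hE : ∃ X O x a p k, Loc X ∧ SylData X S O x a p k ∧ 1 ≤ k ∧ Nat.card (omegaZ O) = 4
  · obtain ⟨X, O, x, a, p, k, hX, d, hk, h4⟩ := hE
    have hk1 : k = 1 := le_antisymm (d.k_le_one_of_four hG h4).2 hk
    have hO4 := hNK X S O x a p k hX d hk h4
    have hSn := d.S_le_normalizer
    have hnorm : normalizer (S : Set G) ≤ normalizer (O : Set G) := by
      intro t ht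
      set c := (MulAut.conj t).toMonoidHom
      have hWS : omegaZ O ≤ S := fun w hw => d.O_le_S hw.1
      have heq : O.map c = O := by
        refine d.eq_of_centralizes hG h4 hk1 hO4 (H := (omegaZ O).map c) (R := O.map c)
          (conj_map_le ht d.O_le_S) (le_normalizer_conj_map ht hSn) (b := c a) ?_ ?_
          (map_mono fun w hw => hw.1) ?_ (le_normalizer_conj_map ht fun s hs =>
            mem_normalizer_of_map_le (by
              rintro _ ⟨w, hw, rfl⟩
              exact d.omegaZ_conj (d.syl.1 hs) hw)) ?_ (k' := 1) ?_ ?_ (fun _ => rfl) (fun _ => rfl)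
        · exact (mem_normalizer_iff.1 ht a).1 ((d.memS a).2 ⟨1, one_mem _, 1, by simp⟩)
        · intro s hs
          have hs' : t⁻¹ * s * t ∈ S := by simpa using (mem_normalizer_iff.1 (inv_mem ht) s).1 hs
          obtain ⟨o, ho, j, e⟩ := (d.memS _).1 hs'
          refine ⟨c o, mem_map_of_mem c ho, j, ?_⟩
          rw [← map_pow, ← map_mul, ← e]
          show s = t * (t⁻¹ * s * t) * t⁻¹
          group
        · rintro _ ⟨w, hw, rfl⟩
          rw [← map_mul, hw.2.1, map_one]
        · rintro _ ⟨w, hw, rfl⟩ _ ⟨o, ho, rfl⟩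
          rw [← map_mul, ← map_mul, hw.2.2 o ho]
        · rw [card_conj, d.card_S hG, hk1]
        · rw [card_conj, h4]
      exact mem_normalizer_of_map_le heq.le
    refine ⟨O, d.nebot, d.two, hnorm, fun Y hY hYS => ?_⟩
    rcases hY.exists_sylData hG hsol hYS with ⟨hle, -⟩ | ⟨O', x', a', p', k', d'⟩
    · exact hle.trans hSn
    rcases Nat.eq_zero_or_pos k' with rfl | hk'
    · have hSO : S = O' := le_antisymm (fun s hs => by
        obtain ⟨o, ho, j, rfl⟩ := (d'.memS s).1 hs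
        have ha1 : a' = 1 := by simpa using d'.ha
        rw [ha1, one_pow, mul_one]; exact ho) d'.O_le_S
      exact (d'.norm.trans (le_of_eq (by rw [hSO]))).trans hnorm
    · have hR := d.eq_of_centralizes hG h4 hk1 hO4 (H := omegaZ O') (R := O') d'.O_le_S
        d'.S_le_normalizer (b := a') ((d'.memS a').2 ⟨1, one_mem _, 1, by simp⟩)
        (fun s hs => (d'.memS s).1 hs) (fun w hw => hw.1) (el_omegaZ O')
        (fun s hs => mem_normalizer_of_map_le (by
          rintro _ ⟨w, hw, rfl⟩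
          exact d'.omegaZ_conj (d'.syl.1 hs) hw))
        (fun w hw o ho => hw.2.2 o ho) (d'.card_S hG) (d'.p_dvd_omegaZ hG).2
        (eq_one_of_big d'.hp d'.hp2 (d'.p_dvd_omegaZ hG).1 (d'.p_dvd_omegaZ hG).2 hk' d'.kdvd
          (IsPGroup.iff_card.1 (d'.two.to_le fun w (hw : w ∈ omegaZ O') => hw.1)))
        (fun e => le_antisymm (d'.k_le_one_of_four hG e).2 hk')
      exact hR ▸ d'.norm
  · refine ⟨Jel S, Jel_ne_bot hS1 hS2, hS2.to_le (Jel_le S), normalizer_le_normalizer_Jel S,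
      fun Y hY hYS => ?_⟩
    rcases hY.exists_sylData hG hsol hYS with ⟨hle, -⟩ | ⟨O', x', a', p', k', d'⟩
    · exact (hle.trans le_normalizer).trans (normalizer_le_normalizer_Jel S)
    rcases Nat.eq_zero_or_pos k' with rfl | hk'
    · have hSO : S = O' := le_antisymm (fun s hs => by
        obtain ⟨o, ho, j, rfl⟩ := (d'.memS s).1 hs
        have ha1 : a' = 1 := by simpa using d'.ha
        rw [ha1, one_pow, mul_one]; exact ho) d'.O_le_S
      exact (d'.norm.trans (le_of_eq (by rw [hSO]))).trans (normalizer_le_normalizer_Jel S)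
    · have hin : ∀ A, MaxEl S A → A ≤ O' := fun A hA => by
        by_contra hAO
        exact hE ⟨Y, O', x', a', p', k', hY, d', hk', d'.four_of_maxEl hG hA hAO⟩
      exact fun g hg => mem_normalizer_Jel fun A hA =>
        (conj_map_le (d'.norm hg) (hin A hA)).trans d'.O_le_S

end

end CfsgLib.PrimeOrders
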