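import Cfsg.Agent.Lib.PrimeOrders.Basic
import Cfsg.Agent.S0183

/-!
# Solvable groups of this kind involve at most two primes

A minimal normal subgroup would otherwise be a Sylow subgroup with a complement of mixed order acting
without fixed points.  Groups of odd order are CN-groups, hence solvable.
-/

set_option autoImplicit false
set_option linter.style.haveILetI false

namespace CfsgLib.PrimeOrders

open Subgroup

universe u

variable {G : Type u} [Group G] [Finite G]

theorem exists_orderOf_pow {g : G} {m : ℕ} (hm : m ∣ orderOf g) :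
    ∃ j : ℕ, orderOf (g ^ j) = m := by
  refine ⟨orderOf g / m, ?_⟩
  have h0 := orderOf_pos g
  rw [orderOf_pow, Nat.gcd_eq_right (Nat.div_dvd_of_dvd hm), Nat.div_div_self hm h0.ne']

/-- Elements commuting with a nonidentity element of order divisible by `p` are `p`-elements. -/
theorem Hyp.isPGroup_centralizer (h : Hyp G) {g : G} {p : ℕ} (hp : p.Prime) (hpg : p ∣ orderOf g) :
    IsPGroup p (centralizer ({g} : Set G)) := by
  haveI : Fact p.Prime := ⟨hp⟩
  refine IsPGroup.iff_orderOf.2 fun y => ⟨(orderOf (y : G)).primeFactorsList.length, ?_⟩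
  rw [← Subgroup.orderOf_coe]
  refine Nat.eq_prime_pow_of_unique_prime_dvd (orderOf_pos _).ne' fun {q} hq hqy => ?_
  by_contra hqp
  obtain ⟨i, hi⟩ := exists_orderOf_pow hpg
  obtain ⟨j, hj⟩ := exists_orderOf_pow hqy
  have hc : Commute (g ^ i) ((y : G) ^ j) :=
    (Commute.pow_pow (mem_centralizer_singleton_iff.1 y.2).symm i j)
  rcases h.comm_eq_one hc.eq (by rw [hi, hj]; exact (Nat.coprime_primes hp hq).2 (Ne.symm hqp))
    with e | e
  · rw [e, orderOf_one] at hi; exact hp.ne_one hi.symm
  · rw [e, orderOf_one] at hj; exact hq.ne_one hj.symm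

theorem Hyp.isSolvable_of_odd (h : Hyp G) (hodd : Odd (Nat.card G)) : Group.IsSolvable G := by
  refine Cfsg.Agent.S0183.result hodd fun g hg => ?_
  obtain ⟨p, hp, hpg⟩ := Nat.exists_prime_and_dvd (fun e => hg (orderOf_eq_one_iff.1 e))
  haveI : Fact p.Prime := ⟨hp⟩
  exact (h.isPGroup_centralizer hp hpg).isNilpotent

/-- Three distinct primes never divide the order of a solvable group of this kind. -/
theorem Hyp.three_primes_false (n : ℕ) : ∀ (X : Type u) [Group X] [Finite X], Nat.card X = n →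
    Hyp X → Group.IsSolvable X → ∀ p q r : ℕ, p.Prime → q.Prime → r.Prime → p ≠ q → p ≠ r → q ≠ r →
      p ∣ n → q ∣ n → r ∣ n → False := by
  induction n using Nat.strongRecOn with
  | ind n ih =>
    intro X _ _ hn h hs p q r hp hq hr hpq hpr hqr hpn hqn hrn
    haveI := hs
    have hn1 : 1 < n := lt_of_lt_of_le hp.one_lt (Nat.le_of_dvd (hn ▸ Nat.card_pos) hpn)
    have htop : (⊤ : Subgroup X) ≠ ⊥ := fun e => by
      rw [← hn, ← Subgroup.card_top, e, Subgroup.card_bot] at hn1; omega
    obtain ⟨V, hVn, hV1, -, hmin⟩ := CfsgLib.Coprime.exists_minimal_normal_le htop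
    haveI := hVn
    obtain ⟨hVc, s, hsp, hVs⟩ := CfsgLib.Coprime.minimal_normal_solvable hV1 hmin
    have hVp : IsPGroup s V := fun v => ⟨1, Subtype.ext (by rw [pow_one]; exact hVs v v.2)⟩
    haveI : Fact s.Prime := ⟨hsp⟩
    obtain ⟨a, ha⟩ := IsPGroup.iff_card.1 hVp
    have hprod : Nat.card V * V.index = n := hn ▸ V.card_mul_index
    have hidx : ∀ t, t.Prime → t ∣ n → t ≠ s → t ∣ V.index := fun t ht htn hts => by
      rw [← hprod, ha] at htn
      exact ((Nat.coprime_primes ht hsp).2 hts |>.pow_right a).dvd_of_dvd_mul_left htn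
    have hlt : V.index < n := by
      rw [← hprod]
      exact lt_mul_of_one_lt_left (Nat.pos_of_ne_zero V.index_ne_zero_of_finite) (V.one_lt_card_iff_ne_bot.2 hV1)
    by_cases hsi : s ∣ V.index
    · have hall : ∀ t, t.Prime → t ∣ n → t ∣ V.index := fun t ht htn => by
        by_cases hts : t = s
        · exact hts ▸ hsi
        · exact hidx t ht htn hts
      refine ih _ hlt (X ⧸ V) V.index_eq_card.symm (h.of_surjective (QuotientGroup.mk' V)
        (QuotientGroup.mk'_surjective V)) inferInstance p q r hp hq hr hpq hpr hqr ?_ ?_ ?_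
      exacts [hall p hp hpn, hall q hq hqn, hall r hr hrn]
    -- the minimal normal subgroup is a Sylow subgroup
    obtain ⟨H, hH⟩ := exists_right_complement'_of_coprime (N := V)
      (by rw [ha]; exact (hsp.coprime_iff_not_dvd.2 hsi).pow_left a)
    have hHcard : Nat.card H = V.index := hH.symm.index_eq_card.symm
    have hHne : Nat.card H ≠ 1 := by
      rw [hHcard]
      intro e
      have hps : ∀ t, t.Prime → t ∣ n → t = s := fun t ht htn => by
        by_contra hts
        have := hidx t ht htn hts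
        rw [e, Nat.dvd_one] at this
        exact ht.ne_one this
      exact hpq ((hps p hp hpn).trans (hps q hq hqn).symm)
    have hH1 : (⊤ : Subgroup H) ≠ ⊥ := fun e =>
      hHne (by rw [← Subgroup.card_top (G := H), e, Subgroup.card_bot])
    obtain ⟨Q0, hQn, hQ1, -, hQmin⟩ := CfsgLib.Coprime.exists_minimal_normal_le hH1
    haveI := hQn
    obtain ⟨hQc, t, htp, hQt⟩ := CfsgLib.Coprime.minimal_normal_solvable hQ1 hQmin
    obtain ⟨⟨x, hx⟩, hx1⟩ := Subgroup.ne_bot_iff_exists_ne_one.1 hQ1
    have hx1' : (x : X) ≠ 1 := fun e => hx1 (Subtype.ext (Subtype.ext e))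
    have hxt : orderOf (x : X) = t := by
      haveI : Fact t.Prime := ⟨htp⟩
      exact orderOf_eq_prime (by simpa using congrArg Subtype.val (hQt x hx)) hx1'
    have hts : t ≠ s := fun e => hsi (by
      rw [← hHcard, ← e, ← hxt]
      exact Subgroup.orderOf_dvd_natCard H x.2)
    have hnorm : ∀ g : X, g ∈ normalizer (V : Set X) := fun g => by
      rw [normalizer_eq_top]; exact mem_top g
    have hQcyc : ∀ y : H, y ∈ Q0 → (y : X) ∈ zpowers (x : X) := fun y hy =>
      h.mem_zpowers_of_normalize hsp hVp hVc hV1 (hnorm _) (hnorm _) htp hts hxt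
        (by simpa using congrArg Subtype.val (hQt y hy))
        (congrArg Subtype.val (hQc x hx y hy))
    obtain ⟨u, hu, hut, huH⟩ : ∃ u, u.Prime ∧ u ≠ t ∧ u ∣ Nat.card H := by
      have key : ∀ w, w.Prime → w ∣ n → w ≠ t → w ≠ s → ∃ u, u.Prime ∧ u ≠ t ∧ u ∣ Nat.card H :=
        fun w hw hwn h1 h2 => ⟨w, hw, h1, hHcard ▸ hidx w hw hwn h2⟩
      by_cases h1 : p ≠ t ∧ p ≠ s
      · exact key p hp hpn h1.1 h1.2
      by_cases h2 : q ≠ t ∧ q ≠ s
      · exact key q hq hqn h2.1 h2.2
      exact key r hr hrn (fun e => by omega) (fun e => by omega)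
    haveI : Fact u.Prime := ⟨hu⟩
    obtain ⟨y, hy⟩ := exists_prime_orderOf_dvd_card' (G := H) u huH
    rw [← Subgroup.orderOf_coe] at hy
    have hus : u ≠ s := fun e => hsi (hHcard ▸ e ▸ huH)
    refine h.no_frobenius hsp hVp hVc hV1 (hnorm (x : X)) (hnorm (y : X)) htp hu hts hus hut.symm hxt
      hy ?_
    have := hQcyc (y * x * y⁻¹) (hQn.conj_mem x hx y)
    simpa using this

theorem Hyp.not_isSolvable (h : Hyp G) (h3 : 3 ≤ (Nat.card G).primeFactors.card) :
    ¬ Group.IsSolvable G := fun hs => by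
  obtain ⟨p, q, r, hp, hq, hr, hpq, hpr, hqr⟩ := Finset.two_lt_card_iff.1 h3
  simp only [Nat.mem_primeFactors] at hp hq hr
  exact Hyp.three_primes_false _ G rfl h hs p q r hp.1 hq.1 hr.1 hpq hpr hqr hp.2.1 hq.2.1 hr.2.1

end CfsgLib.PrimeOrders
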