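import Cfsg.Agent.Lib.PrimeOrders.Facts
import Cfsg.Agent.Lib.Coprime.Solvable

/-!
# The subgroup `O` is determined when `Ω₁ Z(O)` has order four

A normal elementary subgroup of `S` centralized by a subgroup with cyclic quotient lies in
`Ω₁ Z(O)`, unless `O` is a four-group.
-/

set_option autoImplicit false
set_option linter.style.haveILetI false

namespace CfsgLib.PrimeOrders

open Subgroup

universe u

variable {G : Type u} [Group G] [Finite G]
variable {X S O : Subgroup G} {x a : G} {p k : ℕ} (d : SylData X S O x a p k) (hG : Hyp G)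
include d hG

theorem SylData.card_S : Nat.card S = 2 ^ k * Nat.card O := by
  have e : Nat.card (Fin (2 ^ k) × O) = Nat.card S := by
    refine Nat.card_congr (Equiv.ofBijective (fun q => (⟨(q.2 : G) * a ^ (q.1 : ℕ),
      (d.memS _).2 ⟨_, q.2.2, _, rfl⟩⟩ : S)) ⟨?_, ?_⟩)
    · rintro ⟨i, o⟩ ⟨j, o'⟩ e
      have e' : (o : G) * a ^ (i : ℕ) = o' * a ^ (j : ℕ) := congrArg Subtype.val e
      have key : ∀ (i j : Fin (2 ^ k)) (o o' : O), (i : ℕ) ≤ j →
          (o : G) * a ^ (i : ℕ) = o' * a ^ (j : ℕ) → i = j := fun i j o o' hle e => by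
        have h1 : a ^ ((j : ℕ) - i) ∈ O := by
          have h2 : a ^ ((j : ℕ) - i) = (o' : G)⁻¹ * o := by
            rw [pow_sub _ hle, eq_inv_mul_iff_mul_eq, ← mul_assoc, ← e, mul_inv_cancel_right]
          exact h2 ▸ mul_mem (inv_mem o'.2) o.2
        have h3 := d.dvd_of_pow_a_mem hG h1
        have h4 : (j : ℕ) - i < 2 ^ k := lt_of_le_of_lt (Nat.sub_le _ _) j.2
        have h5 := Nat.eq_zero_of_dvd_of_lt h3 h4
        exact Fin.ext (by omega)
      have hij : i = j := (le_total (i : ℕ) j).elim (fun h => key i j o o' h e')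
        fun h => (key j i o' o h e'.symm).symm
      subst hij
      exact Prod.ext rfl (Subtype.ext (mul_right_cancel e'))
    · rintro ⟨s, hs⟩
      obtain ⟨o, ho, j, rfl⟩ := (d.memS s).1 hs
      exact ⟨(⟨j % 2 ^ k, Nat.mod_lt _ (Nat.two_pow_pos k)⟩, ⟨o, ho⟩),
        Subtype.ext (by show o * a ^ (j % 2 ^ k) = _; rw [← pow_eq_pow_mod _ d.ha])⟩
  rw [← e, Nat.card_prod, Nat.card_eq_fintype_card, Fintype.card_fin]

variable (h4 : Nat.card (omegaZ O) = 4)
include h4

/-- `O` is the centralizer of `Ω₁ Z(O)` in `S`. -/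
theorem SylData.mem_of_cent_omegaZ {s : G} (hs : s ∈ S) (hc : ∀ w ∈ omegaZ O, s * w = w * s) :
    s ∈ O := by
  by_contra hsO
  have h1 := d.card_cent_sq hG hs hsO (V := omegaZ O) (fun w hw => hw.1)
    fun v hv => d.omegaZ_conj d.xX hv
  rw [show omegaZ O ⊓ centralizer ({s} : Set G) = omegaZ O from inf_eq_left.2 fun w hw =>
    mem_centralizer_singleton_iff.2 (hc w hw).symm, h4] at h1
  omega

/-- An element with commutators in a subgroup of order two is central in `O`. -/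
theorem SylData.central_of_comm_two {v w : G} (hv : v ∈ O) (hw : w ∈ omegaZ O)
    (hf : ∀ o ∈ O, v * o * v⁻¹ * o⁻¹ = 1 ∨ v * o * v⁻¹ * o⁻¹ = w) : ∀ o ∈ O, v * o = o * v := by
  intro h hh
  by_contra hne
  have hp3 := (d.k_le_one_of_four hG h4).1
  set f : G → G → G := fun v o => v * o * v⁻¹ * o⁻¹ with hfdef
  have hfh : f v h = w := (hf h hh).resolve_left fun e =>
    hne (mul_inv_eq_iff_eq_mul.1 (mul_inv_eq_one.1 e))
  have hw1 : w ≠ 1 := fun e => hne (mul_inv_eq_iff_eq_mul.1 (mul_inv_eq_one.1 (hfh.trans e)))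
  set w2 := x * w * x⁻¹ with hw2def
  set w3 := x * w2 * x⁻¹ with hw3def
  have hw2 : w2 ∈ omegaZ O := d.omegaZ_conj d.xX hw
  have hx3 : x ^ 3 = 1 := by rw [← hp3, ← d.hx, pow_orderOf_eq_one]
  have hfix : ∀ g, orderOf g = p → ∀ u ∈ omegaZ O, g * u * g⁻¹ = u → u = 1 := fun g hg u hu e =>
    d.eq_one_of_comm hG hg hu.1 (mul_inv_eq_iff_eq_mul.1 e)
  have h12 : w2 ≠ w := fun e => hw1 (hfix x d.hx w hw e)
  have hxx : orderOf (x * x) = p := by
    rw [← pow_two, orderOf_pow' x (by norm_num), d.hx, hp3]; norm_num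
  have h13 : w3 ≠ w := fun e => hw1 (hfix (x * x) hxx w hw (by
    rw [show x * x * w * (x * x)⁻¹ = x * (x * w * x⁻¹) * x⁻¹ by group]; exact e))
  have h23 : w3 ≠ w2 := fun e => h12 (by
    have := mul_left_cancel (mul_right_cancel e); exact this)
  have hw21 : w2 ≠ 1 := fun e => hw1 (conj_eq_one_iff.1 e)
  -- conjugation
  have hconj : ∀ u o, f (x * u * x⁻¹) o = x * f u (x⁻¹ * o * x) * x⁻¹ := fun u o => by
    simp only [hfdef]; group
  set v2 := x * v * x⁻¹ with hv2def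
  set v3 := x * v2 * x⁻¹ with hv3def
  have hv2 : v2 ∈ O := d.conj_mem_O d.xX hv
  have hprod : ∀ u ∈ O, u * (x * u * x⁻¹) * (x * (x * u * x⁻¹) * x⁻¹) = 1 := fun u hu => by
    have h1 : (u * x ^ 1) ^ 3 = 1 := by
      rw [← hp3, ← d.orderOf_coset hG hu (i := 1) (by rw [pow_one]; exact d.x_ne_one),
        pow_orderOf_eq_one]
    calc u * (x * u * x⁻¹) * (x * (x * u * x⁻¹) * x⁻¹) = (u * x ^ 1) ^ 3 * (x ^ 3)⁻¹ := by
          simp only [pow_succ, pow_zero, one_mul]; group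
      _ = 1 := by rw [h1, hx3, inv_one, one_mul]
  have hinO : ∀ o ∈ O, x⁻¹ * o * x ∈ O := fun o ho => by
    simpa using d.conj_mem_O (inv_mem d.xX) ho
  have hg : ∀ o ∈ O, f v2 o = 1 ∨ f v2 o = w2 := fun o ho => by
    rcases hf _ (hinO o ho) with e | e
    · exact Or.inl (by rw [hconj]; simp only [hfdef]; rw [e]; group)
    · exact Or.inr (by rw [hconj]; simp only [hfdef]; rw [e])
  have hg3 : ∀ o ∈ O, f v3 o = 1 ∨ f v3 o = w3 := fun o ho => by
    rcases hg _ (hinO o ho) with e | e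
    · exact Or.inl (by rw [hconj, e]; group)
    · exact Or.inr (by rw [hconj, e])
  have hWc : ∀ u ∈ omegaZ O, ∀ o ∈ O, u * o = o * u := fun u hu => hu.2.2
  have hmem : ∀ o ∈ O, f v o ∈ omegaZ O ∧ f v2 o ∈ omegaZ O := fun o ho => by
    refine ⟨?_, ?_⟩
    · rcases hf o ho with e | e
      · rw [show f v o = 1 from e]; exact one_mem _
      · rw [show f v o = w from e]; exact hw
    · rcases hg o ho with e | e <;> rw [e]
      · exact one_mem _
      · exact hw2
  -- the three commutators multiply to one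
  have hrel : ∀ o ∈ O, f v3 o = f v o * f v2 o := fun o ho => by
    obtain ⟨m1, m2⟩ := hmem o ho
    have e3 : v3 = (v * v2)⁻¹ := eq_inv_of_mul_eq_one_right (hprod v hv)
    have h1 : f (v * v2) o = f v o * f v2 o := by
      calc f (v * v2) o = v * f v2 o * v⁻¹ * f v o := by simp only [hfdef]; group
        _ = f v2 o * f v o := by rw [← hWc _ m2 v hv, mul_inv_cancel_right]
        _ = f v o * f v2 o := hWc _ m2 _ m1.1
    have m12 := mul_mem m1 m2
    calc f v3 o = (v * v2)⁻¹ * (f (v * v2) o)⁻¹ * (v * v2) := by rw [e3]; simp only [hfdef]; group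
      _ = (v * v2)⁻¹ * (f v o * f v2 o) * (v * v2) := by
        rw [h1, inv_eq_of_mul_eq_one_right m12.2.1]
      _ = f v o * f v2 o := by
        rw [mul_assoc, hWc _ m12 _ (mul_mem hv hv2), ← mul_assoc, inv_mul_cancel, one_mul]
  have hiff : ∀ o ∈ O, f v2 o = w2 → f v o = w := fun o ho e => by
    rcases hf o ho with e1 | e1
    · exfalso
      have h := hrel o ho
      rw [show f v o = 1 from e1, e, one_mul] at h
      rcases hg3 o ho with e3 | e3 <;> rw [h] at e3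
      · exact hw21 e3
      · exact h23 e3.symm
    · exact e1
  have hstep : ∀ o ∈ O, f v o = w → f v (x * o * x⁻¹) = w := fun o ho e => by
    refine hiff _ (d.conj_mem_O d.xX ho) ?_
    rw [hconj, show x⁻¹ * (x * o * x⁻¹) * x = o by group, e]
  have hh2 := hstep h hh hfh
  have hh3 := hstep _ (d.conj_mem_O d.xX hh) hh2
  have hmul : ∀ o ∈ O, ∀ o' ∈ O, f v (o * o') = f v o * f v o' := fun o ho o' ho' => by
    obtain ⟨m1, -⟩ := hmem o' ho'
    calc f v (o * o') = f v o * (o * f v o' * o⁻¹) := by simp only [hfdef]; group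
      _ = _ := by rw [← hWc _ m1 o ho, mul_inv_cancel_right]
  have := congrArg (f v) (hprod h hh)
  rw [hmul _ (mul_mem hh (d.conj_mem_O d.xX hh)) _ (d.conj_mem_O d.xX (d.conj_mem_O d.xX hh)),
    hmul _ hh _ (d.conj_mem_O d.xX hh), hfh, hh2, hh3, hw.2.1, one_mul] at this
  exact hw1 (this.trans (by simp only [hfdef]; group))

/-- A subgroup of `S` with cyclic quotient centralizing a large normal elementary subgroup is `O`. -/
theorem SylData.eq_of_centralizes (hk1 : k = 1) (hO4 : Nat.card O ≠ 4) {H R : Subgroup G} (hR : R ≤ S)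
    (hRn : S ≤ normalizer (R : Set G)) {b : G} (hb : b ∈ S)
    (hcov : ∀ s ∈ S, ∃ r ∈ R, ∃ i : ℕ, s = r * b ^ i)
    (hH : H ≤ R) (hHel : El H) (hHn : S ≤ normalizer (H : Set G))
    (hHR : ∀ h ∈ H, ∀ r ∈ R, h * r = r * h) {k' : ℕ} (hcard : Nat.card S = 2 ^ k' * Nat.card R)
    (hH4 : 4 ≤ Nat.card H) (hk : Nat.card H ≤ 2 ^ (k' + 1) → k' = 1)
    (hk4 : Nat.card H = 4 → k' = 1) : R = O := by
  classical
  have hSO : Nat.card S = 2 * Nat.card O := by rw [d.card_S hG, hk1, pow_one]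
  have hWle : 4 ≤ Nat.card O := h4 ▸ Subgroup.card_le_of_le fun w hw => hw.1
  by_cases hHO : H ≤ O
  swap
  · exfalso
    obtain ⟨y, hyH, hyO⟩ := SetLike.not_le_iff_exists.1 hHO
    have hC := d.card_cent_sq hG (hR (hH hyH)) hyO (V := O) le_rfl fun v hv => d.conj_mem_O d.xX hv
    have hle : O ⊓ R ≤ O ⊓ centralizer ({y} : Set G) := fun g hg =>
      ⟨hg.1, mem_centralizer_singleton_iff.2 (hHR y hyH g hg.2).symm⟩
    have h1 := CfsgLib.EABasic.card_sup_mul_card_inf_of_le_normalizer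
      ((d.O_le_S.trans hRn) : O ≤ normalizer (R : Set G))
    have h2 : Nat.card (O ⊔ R : Subgroup G) ≤ 2 ^ k' * Nat.card R :=
      hcard ▸ Subgroup.card_le_of_le (sup_le d.O_le_S hR)
    set i := Nat.card (O ⊓ R : Subgroup G)
    have h3 : i * i ≤ Nat.card O := le_trans
      (Nat.mul_le_mul (Subgroup.card_le_of_le hle) (Subgroup.card_le_of_le hle)) hC
    have h5 : Nat.card O ≤ 2 ^ k' * i := by
      refine Nat.le_of_mul_le_mul_right ?_ (Nat.card_pos (α := R))
      rw [← h1, mul_right_comm]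
      exact Nat.mul_le_mul_right _ h2
    have hi : i ≤ 2 ^ k' := Nat.le_of_mul_le_mul_right (h3.trans h5) Nat.card_pos
    have h6 : Nat.card O ≤ 2 ^ k' * 2 ^ k' := h5.trans (Nat.mul_le_mul_left _ hi)
    have h7 : Nat.card R ≤ 2 * 2 ^ k' := by
      refine Nat.le_of_mul_le_mul_left ?_ (Nat.two_pow_pos k')
      rw [← hcard, hSO, show 2 ^ k' * (2 * 2 ^ k') = 2 * (2 ^ k' * 2 ^ k') by ring]
      exact Nat.mul_le_mul_left _ h6
    have hk' : k' = 1 := hk ((Subgroup.card_le_of_le hH).trans (by rw [pow_succ']; exact h7))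
    rw [hk', pow_one] at h6
    omega
  have hHW : H ≤ omegaZ O := by
    by_contra hnot
    set Oc := (omegaZ O ⊓ H).subgroupOf O
    haveI hOcn : Oc.Normal := (normal_subgroupOf_iff_le_normalizer
      ((inf_le_left : omegaZ O ⊓ H ≤ omegaZ O).trans fun w hw => hw.1)).2 fun g hg => mem_normalizer_iff.2 fun w => by
        have hfix : ∀ g' ∈ O, ∀ u ∈ omegaZ O, g' * u * g'⁻¹ = u := fun g' hg' u hu => by
          rw [← hu.2.2 g' hg', mul_inv_cancel_right]
        constructor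
        · intro hw
          rw [hfix g hg w (Subgroup.mem_inf.1 hw).1]
          exact hw
        · intro hw
          have e := hfix g⁻¹ (inv_mem hg) _ (Subgroup.mem_inf.1 hw).1
          rw [show g⁻¹ * (g * w * g⁻¹) * g⁻¹⁻¹ = w by group] at e
          rw [e]
          exact hw
    haveI : Fact (Nat.Prime 2) := ⟨Nat.prime_two⟩
    haveI : Group.IsNilpotent O := d.two.isNilpotent
    haveI hHn' : (H.subgroupOf O).Normal :=
      (normal_subgroupOf_iff_le_normalizer hHO).2 (d.O_le_S.trans hHn)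
    set π := QuotientGroup.mk' Oc
    haveI : ((H.subgroupOf O).map π).Normal := hHn'.map π (QuotientGroup.mk'_surjective _)
    have hne : (H.subgroupOf O).map π ≠ ⊥ := by
      rw [Ne, Subgroup.map_eq_bot_iff, QuotientGroup.ker_mk']
      exact fun e => hnot fun g hg => (e (show (⟨g, hHO hg⟩ : O) ∈ H.subgroupOf O from hg)).1
    obtain ⟨⟨q, ⟨⟨v, hvH, rfl⟩, hqc⟩⟩, hq1⟩ := Subgroup.ne_bot_iff_exists_ne_one.1
      (CfsgLib.Coprime.nilpotent_inf_center_ne_bot ((H.subgroupOf O).map π) hne)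
    have hvc : ∀ o : O, (v : G) * o * (v : G)⁻¹ * (o : G)⁻¹ ∈ omegaZ O := fun o => by
      have h1 : π (v * o * v⁻¹ * o⁻¹) = 1 := by
        rw [map_mul, map_mul, map_mul, map_inv, map_inv, ← (mem_center_iff.1 hqc) (π o)]
        group
      exact ((QuotientGroup.eq_one_iff _).1 h1).1
    have hvW : ((v : O) : G) ∉ omegaZ O := fun e => hq1 (Subtype.ext (by
      show π v = 1
      exact (QuotientGroup.eq_one_iff v).2 ⟨e, hvH⟩))
    -- the image of `O` in `S ⧸ R` is cyclic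
    haveI : (R.subgroupOf S).Normal := (normal_subgroupOf_iff_le_normalizer hR).2 hRn
    set ρ := QuotientGroup.mk' (R.subgroupOf S)
    haveI : IsCyclic (S ⧸ R.subgroupOf S) := ⟨⟨ρ ⟨b, hb⟩, fun y => by
      obtain ⟨⟨s, hs⟩, rfl⟩ := QuotientGroup.mk'_surjective _ y
      obtain ⟨r, hr, i, rfl⟩ := hcov s hs
      refine mem_zpowers_iff.2 ⟨i, ?_⟩
      rw [zpow_natCast, show (⟨r * b ^ i, hs⟩ : S) = ⟨r, hR hr⟩ * ⟨b, hb⟩ ^ i from Subtype.ext (by simp),
        map_mul, map_pow, show ρ ⟨r, hR hr⟩ = 1 from (QuotientGroup.eq_one_iff _).2 hr,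
        one_mul]⟩⟩
    obtain ⟨⟨_, o0, ho0, rfl⟩, hgen⟩ := IsCyclic.exists_generator
      (α := (O.subgroupOf S).map ρ)
    replace ho0 : (o0 : G) ∈ O := ho0
    set w := (v : G) * (o0 : G) * (v : G)⁻¹ * (o0 : G)⁻¹ with hwdef
    have hw : w ∈ omegaZ O := hvc ⟨o0, ho0⟩
    have hmulf : ∀ o ∈ O, ∀ o' ∈ O, (v : G) * (o * o') * (v : G)⁻¹ * (o * o')⁻¹ =
        ((v : G) * o * (v : G)⁻¹ * o⁻¹) * ((v : G) * o' * (v : G)⁻¹ * o'⁻¹) := fun o ho o' ho' => by
      have m := hvc ⟨o', ho'⟩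
      calc (v : G) * (o * o') * (v : G)⁻¹ * (o * o')⁻¹
          = ((v : G) * o * (v : G)⁻¹ * o⁻¹) * (o * ((v : G) * o' * (v : G)⁻¹ * o'⁻¹) * o⁻¹) := by group
        _ = _ := by rw [← m.2.2 o ho, mul_inv_cancel_right]
    have hfpow : ∀ i : ℕ, (v : G) * (o0 : G) ^ i * (v : G)⁻¹ * ((o0 : G) ^ i)⁻¹ = w ^ i := by
      intro i
      induction i with
      | zero => simp
      | succ i ih => rw [pow_succ, hmulf _ (pow_mem ho0 i) _ ho0, ih, pow_succ]
    have hf : ∀ o ∈ O, (v : G) * o * (v : G)⁻¹ * o⁻¹ = 1 ∨ (v : G) * o * (v : G)⁻¹ * o⁻¹ = w := by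
      intro o ho
      obtain ⟨i, hi⟩ := exists_pow_of_mem_zpowers
        (hgen ⟨ρ ⟨o, d.O_le_S ho⟩, ⟨_, ho, rfl⟩⟩)
      have hi' : ρ (o0 ^ i) = ρ ⟨o, d.O_le_S ho⟩ := by
        rw [map_pow]; exact congrArg Subtype.val hi
      obtain ⟨r, hr, he⟩ := (QuotientGroup.mk'_eq_mk' _).1 hi'
      have he' : (o0 : G) ^ i * r = o := by simpa using congrArg Subtype.val he
      have hrO : (r : G) ∈ O := by
        rw [show (r : G) = ((o0 : G) ^ i)⁻¹ * o by rw [← he']; group]
        exact mul_mem (inv_mem (pow_mem ho0 i)) ho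
      have hr1 : (v : G) * (r : G) * (v : G)⁻¹ * (r : G)⁻¹ = 1 := by
        rw [show (v : G) * (r : G) = (r : G) * (v : G) from hHR _ hvH _ hr]; group
      rw [← he', hmulf _ (pow_mem ho0 i) _ hrO, hfpow, hr1, mul_one]
      rcases Nat.even_or_odd' i with ⟨c, rfl | rfl⟩
      · left; rw [pow_mul, pow_two, hw.2.1, one_pow]
      · right; rw [pow_succ, pow_mul, pow_two, hw.2.1, one_pow, one_mul]
    exact hvW ⟨(v : O).2, hHel _ hvH, d.central_of_comm_two hG h4 (v : O).2 hw hf⟩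
  have hHc : Nat.card H = 4 :=
    le_antisymm (h4 ▸ Subgroup.card_le_of_le hHW) hH4
  have hHeq : H = omegaZ O := eq_of_le_of_card_ge hHW (by rw [h4, hHc])
  refine eq_of_le_of_card_ge (fun r hr => d.mem_of_cent_omegaZ hG h4 (hR hr) fun w hw =>
    (hHR w (hHeq ▸ hw) r hr).symm) ?_
  rw [hk4 hHc, pow_one, hSO] at hcard
  omega

end CfsgLib.PrimeOrders
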